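import Groth.Agent.Fano.K188.OnHyp

/-!
# Linear maps between projective spaces

* `preimage_Dp`: the preimage of a chart is the generating locus of the coordinate;
* `isIso_of_lsec`: an endomorphism of `P1 T` given by an invertible matrix is an isomorphism;
* `exists_iso_P1`: `P^1_R` and `P1 (Spec R)`;
* over a field: `isUnit_det`, `exists_isUnit_det`.
-/

set_option autoImplicit false
universe u
open CategoryTheory CategoryTheory.Limits AlgebraicGeometry TopologicalSpace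

namespace K188.LinP1

open K390.PnSec Groth.Agent.Fdesc.LocGen Groth.Agent.Dix.ProjProper
open Groth.Agent.Ega2.H295.PnUniq Groth.Agent.Ega2.H295.PnCoord
open K188.LineDef K188.MapP1 K188.HypFac K188.LinFun K188.OnHypL

attribute [local instance] MvPolynomial.gradedAlgebra

variable {X Y T : Scheme.{u}} {k : Type u} [Field k] {n d : ℕ} {R : Type u} [CommRing R]

/-- The preimage of a chart is the generating locus of the coordinate. -/
theorem preimage_Dp {r : X ⟶ CohB1.ProjSpace n R} {M : X.Modules} {s : Fin (n + 1) → Γ(M, ⊤)} (h : GivenBy r M s)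
    (i : Fin (n + 1)) : r ⁻¹ᵁ Dp (Fin (n + 1)) R i = gl (s i) := by
  obtain ⟨τ, hτ⟩ := h
  have h1 : gl (s i) = gl (tsec r i) := by
    rw [← hτ i]
    exact genLocus_app τ (tsec r i)
  rw [h1]
  apply le_antisymm
  · rw [le_gl_iff]
    exact isGen_res_tsec r i le_rfl
  · choose g hg using fun b => (isGen_res_gl (tsec r i)).exists_eq (res _ le_top (tsec r b))
    obtain ⟨e, -⟩ := ratio_of_rel r i g hg
    exact e

/-- Linear combinations of sections vanishing at a point vanish there. -/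
theorem notMem_gl_add {M : X.Modules} (hM : PicF.IsInvertible M) {s₁ s₂ : Γ(M, ⊤)} (a b : Γ(X, ⊤)) {x : X}
    (h1 : x ∉ gl s₁) (h2 : x ∉ gl s₂) : x ∉ gl (a • s₁ + b • s₂) := by
  obtain ⟨U, e, hx, he⟩ := (isInvertible_iff M).1 hM x
  obtain ⟨f₁, hf₁⟩ := he.exists_eq (res M le_top s₁)
  obtain ⟨f₂, hf₂⟩ := he.exists_eq (res M le_top s₂)
  rw [mem_gl_iff he hf₁ hx, Scheme.mem_basicOpen _ _ _ hx] at h1
  rw [mem_gl_iff he hf₂ hx, Scheme.mem_basicOpen _ _ _ hx] at h2
  have h3 : res M (le_top : U ≤ ⊤) (a • s₁ + b • s₂) =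
      (ores (le_top : U ≤ ⊤) a * f₁ + ores (le_top : U ≤ ⊤) b * f₂) • e := by
    rw [map_add, res_smul, res_smul, hf₁, hf₂, add_smul, mul_smul, mul_smul]
  rw [mem_gl_iff he h3 hx, Scheme.mem_basicOpen _ _ _ hx, map_add, map_mul, map_mul]
  have h4 := Ideal.add_mem (IsLocalRing.maximalIdeal (X.presheaf.stalk x))
    (Ideal.mul_mem_left _ ((X.presheaf.germ U x hx).hom (ores (le_top : U ≤ ⊤) a))
      ((IsLocalRing.mem_maximalIdeal _).2 h1))
    (Ideal.mul_mem_left _ ((X.presheaf.germ U x hx).hom (ores (le_top : U ≤ ⊤) b))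
      ((IsLocalRing.mem_maximalIdeal _).2 h2))
  exact (IsLocalRing.mem_maximalIdeal _).1 h4

theorem isInvertible_N : PicF.IsInvertible (N T) := isInvertible_pullback _ (isInvertible_O1 1 Z.{u})

/-- The matrix product acts on linear sections. -/
theorem lsec_comp {v c : Fin (1 + 1) → Γ(T, ⊤)} (v' c' : Fin (n + 1) → Γ(T, ⊤)) (a : Fin (n + 1)) :
    ((pr T).appTop (v' a)) • lsec v c 0 + ((pr T).appTop (c' a)) • lsec v c 1 =
      lsec (fun a => v' a * v 0 + c' a * v 1) (fun a => v' a * c 0 + c' a * c 1) a := by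
  simp only [lsec, map_add, map_mul, smul_add, add_smul, mul_smul]
  abel

/-- Composition of an endomorphism of the projective line and a linear map. -/
theorem givenBy_comp_end {ψ : P1 T ⟶ P1 T} (hψ : ψ ≫ pr T = pr T) {v c : Fin (1 + 1) → Γ(T, ⊤)}
    (h : GivenBy (ψ ≫ toZ 1 T) (N T) (lsec v c)) {r : P1 T ⟶ CohB1.ProjSpace n R} {v' c' : Fin (n + 1) → Γ(T, ⊤)}
    (h' : GivenBy r (N T) (lsec v' c')) :
    GivenBy (ψ ≫ r) (N T) (lsec (fun a => v' a * v 0 + c' a * v 1) (fun a => v' a * c 0 + c' a * c 1)) := by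
  have h1 : GivenBy (ψ ≫ r) (N T) (fun a => ((ψ ≫ pr T).appTop (v' a)) • lsec v c 0 +
      ((ψ ≫ pr T).appTop (c' a)) • lsec v c 1) := givenBy_comp_lsec h h'
  have h2 : (fun a => ((ψ ≫ pr T).appTop (v' a)) • lsec v c 0 + ((ψ ≫ pr T).appTop (c' a)) • lsec v c 1) =
      lsec (fun a => v' a * v 0 + c' a * v 1) (fun a => v' a * c 0 + c' a * c 1) := by
    funext a
    rw [hψ]
    exact lsec_comp v' c' a
  exact h2 ▸ h1

/-- The tautological coordinates. -/
theorem givenBy_id : GivenBy (toZ 1 T) (N T) (lsec (![1, 0] : Fin (1 + 1) → Γ(T, ⊤)) ![0, 1]) := by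
  have h1 : (lsec (![1, 0] : Fin (1 + 1) → Γ(T, ⊤)) ![0, 1]) = crd 1 T := by
    funext a
    fin_cases a
    · simp [lsec]
    · simp [lsec]
  rw [h1]
  exact GivenBy.refl _

/-- Sections given by an invertible matrix generate. -/
theorem gl_of_det {v c : Fin (n + 1) → Γ(T, ⊤)} {i j : Fin (n + 1)} (hdet : IsUnit (v i * c j - v j * c i))
    (x : P1 T) : x ∈ gl (lsec v c i) ∨ x ∈ gl (lsec v c j) := by
  obtain ⟨D, hD⟩ := hdet
  let δ : Γ(T, ⊤) := ↑D⁻¹
  have hδ : δ * (v i * c j - v j * c i) = 1 := by rw [← hD]; exact D.inv_mul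
  by_contra hcon
  push Not at hcon
  have key : ∀ a b : Γ(T, ⊤), x ∉ gl (((pr T).appTop a) • lsec v c i + ((pr T).appTop b) • lsec v c j) :=
    fun a b => notMem_gl_add isInvertible_N _ _ hcon.1 hcon.2
  have h0 : ((pr T).appTop (δ * c j)) • lsec v c i + ((pr T).appTop (- (δ * c i))) • lsec v c j = crd 1 T 0 := by
    have h1 : δ * c j * v i + - (δ * c i) * v j = 1 := by linear_combination hδ
    have h2 : δ * c j * c i + - (δ * c i) * c j = 0 := by ring
    calc _ = ((pr T).appTop (δ * c j * v i + - (δ * c i) * v j)) • crd 1 T 0 +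
          ((pr T).appTop (δ * c j * c i + - (δ * c i) * c j)) • crd 1 T 1 := by
            simp only [lsec, map_add, map_mul, smul_add, add_smul, mul_smul]
            abel
      _ = _ := by rw [h1, h2, map_one, map_zero, one_smul, zero_smul, add_zero]
  have h1 : ((pr T).appTop (- (δ * v j))) • lsec v c i + ((pr T).appTop (δ * v i)) • lsec v c j = crd 1 T 1 := by
    have h1 : - (δ * v j) * v i + (δ * v i) * v j = 0 := by ring
    have h2 : - (δ * v j) * c i + (δ * v i) * c j = 1 := by linear_combination hδ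
    calc _ = ((pr T).appTop (- (δ * v j) * v i + (δ * v i) * v j)) • crd 1 T 0 +
          ((pr T).appTop (- (δ * v j) * c i + (δ * v i) * c j)) • crd 1 T 1 := by
            simp only [lsec, map_add, map_mul, smul_add, add_smul, mul_smul]
            abel
      _ = _ := by rw [h1, h2, map_one, map_zero, one_smul, zero_smul, zero_add]
  rcases gl_crd x with h | h
  · exact key _ _ (h0 ▸ h)
  · exact key _ _ (h1 ▸ h)

theorem exists_end {v c : Fin (1 + 1) → Γ(T, ⊤)} (hdet : IsUnit (v 0 * c 1 - v 1 * c 0)) :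
    ∃ ψ : P1 T ⟶ P1 T, ψ ≫ pr T = pr T ∧ GivenBy (ψ ≫ toZ 1 T) (N T) (lsec v c) := by
  obtain ⟨r, hr⟩ := exists_givenBy' (M := N T) (lsec v c) (by
    rw [eq_top_iff]
    intro x _
    rw [Opens.mem_iSup]
    rcases gl_of_det hdet x with h | h
    · exact ⟨_, h⟩
    · exact ⟨_, h⟩)
  refine ⟨liftP r (pr T), liftP_toBase _ _, ?_⟩
  rw [liftP_toZ]
  exact hr

/-- An endomorphism given by an invertible matrix is an isomorphism. -/
theorem isIso_of_lsec {ψ : P1 T ⟶ P1 T} (hψ : ψ ≫ pr T = pr T) {v c : Fin (1 + 1) → Γ(T, ⊤)}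
    (h : GivenBy (ψ ≫ toZ 1 T) (N T) (lsec v c)) (hdet : IsUnit (v 0 * c 1 - v 1 * c 0)) : IsIso ψ := by
  obtain ⟨D, hD⟩ := hdet
  let δ : Γ(T, ⊤) := ↑D⁻¹
  have hδ : δ * (v 0 * c 1 - v 1 * c 0) = 1 := by rw [← hD]; exact D.inv_mul
  let v' : Fin (1 + 1) → Γ(T, ⊤) := ![δ * c 1, - (δ * v 1)]
  let c' : Fin (1 + 1) → Γ(T, ⊤) := ![- (δ * c 0), δ * v 0]
  have hdet' : v' 0 * c' 1 - v' 1 * c' 0 = δ := by
    change (δ * c 1) * (δ * v 0) - (- (δ * v 1)) * (- (δ * c 0)) = δ
    linear_combination δ * hδ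
  obtain ⟨φ, hφ, hφ'⟩ := exists_end (T := T) (v := v') (c := c') (by rw [hdet']; exact (D⁻¹).isUnit)
  have e1 : φ ≫ ψ = 𝟙 _ := by
    refine hom_ext_over ?_ ?_
    · have h1 := givenBy_comp_end hφ hφ' h
      have h2 : (fun a => v a * v' 0 + c a * v' 1) = (![1, 0] : Fin (1 + 1) → Γ(T, ⊤)) := by
        funext a
        fin_cases a
        · change v 0 * (δ * c 1) + c 0 * (- (δ * v 1)) = 1
          linear_combination hδ
        · change v 1 * (δ * c 1) + c 1 * (- (δ * v 1)) = 0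
          ring
      have h3 : (fun a => v a * c' 0 + c a * c' 1) = (![0, 1] : Fin (1 + 1) → Γ(T, ⊤)) := by
        funext a
        fin_cases a
        · change v 0 * (- (δ * c 0)) + c 0 * (δ * v 0) = 0
          ring
        · change v 1 * (- (δ * c 0)) + c 1 * (δ * v 0) = 1
          linear_combination hδ
      rw [h2, h3] at h1
      rw [Category.assoc, Category.id_comp]
      exact h1.unique' givenBy_id
    · rw [Category.assoc, hψ, hφ, Category.id_comp]
  have e2 : ψ ≫ φ = 𝟙 _ := by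
    refine hom_ext_over ?_ ?_
    · have h1 := givenBy_comp_end hψ h hφ'
      have h2 : (fun a => v' a * v 0 + c' a * v 1) = (![1, 0] : Fin (1 + 1) → Γ(T, ⊤)) := by
        funext a
        fin_cases a
        · change (δ * c 1) * v 0 + (- (δ * c 0)) * v 1 = 1
          linear_combination hδ
        · change (- (δ * v 1)) * v 0 + (δ * v 0) * v 1 = 0
          ring
      have h3 : (fun a => v' a * c 0 + c' a * c 1) = (![0, 1] : Fin (1 + 1) → Γ(T, ⊤)) := by
        funext a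
        fin_cases a
        · change (δ * c 1) * c 0 + (- (δ * c 0)) * c 1 = 0
          ring
        · change (- (δ * v 1)) * c 0 + (δ * v 0) * c 1 = 1
          linear_combination hδ
      rw [h2, h3] at h1
      rw [Category.assoc, Category.id_comp]
      exact h1.unique' givenBy_id
    · rw [Category.assoc, hφ, hψ, Category.id_comp]
  exact ⟨φ, e2, e1⟩

section Field

variable {Ω : Type u} [Field Ω]

theorem notMem_gl_zero {M : X.Modules} (hM : PicF.IsInvertible M) (x : X) : x ∉ gl (0 : Γ(M, ⊤)) := by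
  obtain ⟨U, e, hx, he⟩ := (isInvertible_iff M).1 hM x
  have h3 : res M (le_top : U ≤ ⊤) 0 = (0 : Γ(X, U)) • e := by rw [map_zero, zero_smul]
  rw [mem_gl_iff he h3 hx, Scheme.mem_basicOpen _ _ _ hx, map_zero]
  exact not_isUnit_zero

theorem isUnit_iff_ne_zero' (a : Γ(Spec (CommRingCat.of Ω), ⊤)) : IsUnit a ↔ a ≠ 0 := by
  have h1 : IsField Γ(Spec (CommRingCat.of Ω), ⊤) :=
    MulEquiv.isField (Field.toIsField Ω) (Scheme.ΓSpecIso (CommRingCat.of Ω)).commRingCatIsoToRingEquiv.toMulEquiv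
  constructor
  · rintro h rfl
    have := h1.nontrivial
    exact not_isUnit_zero h
  · intro h
    obtain ⟨b, hb⟩ := h1.mul_inv_cancel h
    exact IsUnit.of_mul_eq_one b hb

/-- A nonzero linear form among those of a morphism has an independent partner. -/
theorem exists_isUnit_det {r : P1 (Spec (CommRingCat.of Ω)) ⟶ CohB1.ProjSpace n R}
    {v c : Fin (n + 1) → Γ(Spec (CommRingCat.of Ω), ⊤)} (h : GivenBy r (N _) (lsec v c)) (i : Fin (n + 1))
    (hi : v i ≠ 0 ∨ c i ≠ 0) : ∃ j, IsUnit (v i * c j - v j * c i) := by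
  by_contra hcon
  push Not at hcon
  have hz : ∀ j, v i * c j - v j * c i = 0 := fun j => by
    by_contra h0
    exact hcon j ((isUnit_iff_ne_zero' _).2 h0)
  obtain ⟨x, b, hx, hx'⟩ : ∃ (x : Fin (1 + 1) → Γ(Spec (CommRingCat.of Ω), ⊤)) (b : Fin (1 + 1)), x b = 1 ∧
      ∀ j, v j * x 0 + c j * x 1 = 0 := by
    by_cases hvi : v i = 0
    · have hci := hi.resolve_left (by rw [hvi]; simp)
      obtain ⟨D, hD⟩ := (isUnit_iff_ne_zero' _).2 hci
      refine ⟨![1, 0], 0, rfl, fun j => ?_⟩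
      change v j * 1 + c j * 0 = 0
      have h1 := hz j
      rw [hvi, ← hD] at h1
      have h2 : v j * D = 0 := by linear_combination -h1
      have h3 : v j = 0 := by
        have h4 := congrArg (· * (↑D⁻¹ : Γ(Spec (CommRingCat.of Ω), ⊤))) h2
        simp only [zero_mul] at h4
        rwa [mul_assoc, D.mul_inv, mul_one] at h4
      rw [h3]
      ring
    · obtain ⟨D, hD⟩ := (isUnit_iff_ne_zero' _).2 hvi
      refine ⟨![- ((↑D⁻¹ : Γ(Spec (CommRingCat.of Ω), ⊤)) * c i), 1], 1, rfl, fun j => ?_⟩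
      change v j * (- (↑D⁻¹ * c i)) + c j * 1 = 0
      have h1 := hz j
      have h2 : (↑D⁻¹ : Γ(Spec (CommRingCat.of Ω), ⊤)) * v i = 1 := by rw [← hD]; exact D.inv_mul
      linear_combination (↑D⁻¹ : Γ(Spec (CommRingCat.of Ω), ⊤)) * h1 - c j * h2
  obtain ⟨ψ, hψ, hψ'⟩ := exists_pt (𝟙 (Spec (CommRingCat.of Ω))) x b hx
  have h1 := givenBy_comp_lsec' hψ' h
  have h2 := h1.iSup_genLocus
  have h3 := h2.ge (show IsLocalRing.closedPoint Ω ∈ (⊤ : (Spec (CommRingCat.of Ω)).Opens) from trivial)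
  rw [Opens.mem_iSup] at h3
  obtain ⟨a, ha⟩ := h3
  rw [hψ] at ha
  have h4 : (ofFun ((𝟙 (Spec (CommRingCat.of Ω)) : Spec (CommRingCat.of Ω) ⟶ _).appTop (v a) * x 0 +
      (𝟙 (Spec (CommRingCat.of Ω)) : Spec (CommRingCat.of Ω) ⟶ _).appTop (c a) * x 1) :
      Γ(Coh.structureModule (Spec (CommRingCat.of Ω)), ⊤)) = 0 := by
    rw [Scheme.Hom.id_appTop]
    refine (congrArg ofFun (hx' a)).trans (map_zero _)
  rw [h4] at ha
  refine notMem_gl_zero ?_ _ ha
  rw [isInvertible_iff]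
  exact fun x => ⟨⊤, one ⊤, trivial, isGen_one ⊤⟩

/-- The chart of a linear map at a point. -/
theorem exists_chart_lsec {r : P1 (Spec (CommRingCat.of Ω)) ⟶ CohB1.ProjSpace n R}
    {v c : Fin (n + 1) → Γ(Spec (CommRingCat.of Ω), ⊤)} (h : GivenBy r (N _) (lsec v c)) (i : Fin (n + 1))
    (x : P1 (Spec (CommRingCat.of Ω))) (hx : r x ∈ Dp (Fin (n + 1)) R i) :
    ∃ j, i ≠ j ∧ ∀ y, r y ∈ Dp (Fin (n + 1)) R i ∨ r y ∈ Dp (Fin (n + 1)) R j := by
  have h1 : ∀ (a : Fin (n + 1)) y, r y ∈ Dp (Fin (n + 1)) R a ↔ y ∈ gl (lsec v c a) := fun a y => by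
    rw [← preimage_Dp h a]
    rfl
  have h2 : v i ≠ 0 ∨ c i ≠ 0 := by
    by_contra hcon
    push Not at hcon
    rw [h1] at hx
    have h3 : lsec v c i = 0 := by rw [lsec, hcon.1, hcon.2, map_zero, zero_smul, zero_smul, add_zero]
    rw [h3] at hx
    exact notMem_gl_zero isInvertible_N _ hx
  obtain ⟨j, hj⟩ := exists_isUnit_det h i h2
  refine ⟨j, ?_, fun y => ?_⟩
  · rintro rfl
    rw [mul_comm, sub_self, isUnit_iff_ne_zero'] at hj
    exact hj rfl
  · rw [h1, h1]
    exact gl_of_det hj y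

end Field

theorem pullSec_id {M : X.Modules} {U : X.Opens} (m : Γ(M, U)) :
    ((Scheme.Modules.pullbackId X).hom.app M).app U (pullSec (𝟙 X) m) = m := by
  have h := unit_conjugateEquiv .id (Scheme.Modules.pullbackPushforwardAdjunction (𝟙 X))
    (Scheme.Modules.pullbackId X).hom M
  rw [Scheme.Modules.conjugateEquiv_pullbackId_hom] at h
  exact congr(($(h).app U) m).symm

theorem givenBy_one (n : ℕ) (R : Type u) [CommRing R] : GivenBy (𝟙 (CohB1.ProjSpace n R)) (O1 n R) (cd n R) :=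
  ⟨(Scheme.Modules.pullbackId _).app (O1 n R), fun i => pullSec_id (cd n R i)⟩

theorem GivenBy.toCd {r : X ⟶ CohB1.ProjSpace n R} {M : X.Modules} {s : Fin (n + 1) → Γ(M, ⊤)} (h : GivenBy r M s)
    {R' : Type u} [CommRing R'] {f : CohB1.ProjSpace n R ⟶ CohB1.ProjSpace n R'} (hf : GivenBy f (O1 n R) (cd n R)) :
    GivenBy (r ≫ f) M s := by
  obtain ⟨τ, hτ⟩ := h
  have h1 := (hf.comp r).of_iso τ
  have h2 : (fun i => τ.hom.app ⊤ (pullTop r (cd n R i))) = s := funext hτ
  exact h2 ▸ h1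

/-- The projective line over `R` and over `Spec R`. -/
theorem exists_iso_P1 (R : Type u) [CommRing R] : ∃ ε : CohB1.ProjSpace 1 R ≅ P1 (Spec (CommRingCat.of R)),
    ε.hom ≫ pr _ = CohB1.ProjSpace.toSpec 1 R ∧ GivenBy (ε.hom ≫ toZ 1 _) (O1 1 R) (cd 1 R) ∧
      GivenBy ε.inv (N _) (crd 1 (Spec (CommRingCat.of R))) := by
  have h0 := givenBy_one 1 R
  obtain ⟨r, hr⟩ := exists_givenBy' (M := O1 1 R) (cd 1 R) h0.iSup_genLocus
  obtain ⟨r', hr1, hr'⟩ := exists_givenBy (R := R) (pr (Spec (CommRingCat.of R))) (M := N _)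
    (crd 1 (Spec (CommRingCat.of R))) (GivenBy.refl (toZ 1 _)).iSup_genLocus
  let f := liftP r (CohB1.ProjSpace.toSpec 1 R)
  have hf : f ≫ toZ 1 _ = r := liftP_toZ _ _
  have e1 : f ≫ r' = 𝟙 _ := by
    have h1 : GivenBy (f ≫ toZ 1 _) (O1 1 R) (cd 1 R) := by rw [hf]; exact hr
    obtain ⟨e, he⟩ := ((GivenBy.refl (toZ 1 (Spec (CommRingCat.of R)))).comp f).exists_iso h1
    have h2 := (hr'.comp f).of_iso e
    have h3 : (fun i => e.hom.app ⊤ (pullTop f (crd 1 (Spec (CommRingCat.of R)) i))) = cd 1 R := funext he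
    have h4 : GivenBy (f ≫ r') (O1 1 R) (cd 1 R) := h3 ▸ h2
    refine h4.unique h0 ?_
    rw [Category.assoc, hr1, liftP_toBase, Category.id_comp]
  have e2 : r' ≫ f = 𝟙 _ := by
    refine hom_ext_over ?_ ?_
    · rw [Category.assoc, hf, Category.id_comp]
      exact (GivenBy.toCd hr' hr).unique' (GivenBy.refl _)
    · rw [Category.assoc, liftP_toBase, hr1, Category.id_comp]
  refine ⟨⟨f, r', e1, e2⟩, liftP_toBase _ _, ?_, hr'⟩
  change GivenBy (f ≫ toZ 1 _) _ _
  rw [liftP_toZ]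
  exact hr

end K188.LinP1
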