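import Groth.Agent.Fano.K188.LineDef

/-!
# Maps from the projective line given by linear forms: existence and generating loci

* `gl s`: the locus where the section `s` generates;
* `lsec_i`, `lsec_j`;
* `exists_map`: node D1.
-/

set_option autoImplicit false
universe u
open CategoryTheory CategoryTheory.Limits AlgebraicGeometry TopologicalSpace

namespace K188.MapP1

open K390.PnSec Groth.Agent.Fdesc.LocGen Groth.Agent.Dix.ProjProper
open Groth.Agent.Ega2.H295.PnUniq Groth.Agent.Ega2.H295.PnCoord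
open K188.LineDef

variable {X Y T : Scheme.{u}}

/-- The locus where a global section generates. -/
noncomputable abbrev gl {M : X.Modules} (s : Γ(M, ⊤)) : X.Opens := CohB1.genLocus M (homOf s)

theorem le_gl_iff {M : X.Modules} (s : Γ(M, ⊤)) (U : X.Opens) : U ≤ gl s ↔ IsGen (res M (le_top : U ≤ ⊤) s) := by
  rw [le_genLocus_iff, sec_homOf]

theorem isGen_res_gl {M : X.Modules} (s : Γ(M, ⊤)) : IsGen (res M (le_top : gl s ≤ ⊤) s) :=
  (le_gl_iff s _).1 le_rfl

theorem mem_gl_iff {M : X.Modules} {s : Γ(M, ⊤)} {U : X.Opens} {e : Γ(M, U)} (he : IsGen e) {a : Γ(X, U)}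
    (h : res M (le_top : U ≤ ⊤) s = a • e) {x : X} (hx : x ∈ U) : x ∈ gl s ↔ x ∈ X.basicOpen a := by
  have h1 := genLocus_inf_eq (homOf s) he ((sec_homOf _ _).trans h)
  constructor
  · intro h2
    rw [← h1]
    exact ⟨h2, hx⟩
  · intro h2
    rw [← h1] at h2
    exact h2.1

/-- The value at a point: `b s₁ + s₂` generates where `s₂` does and `s₁` does not. -/
theorem mem_gl_add {M : X.Modules} {s₁ s₂ : Γ(M, ⊤)} (b : Γ(X, ⊤)) {x : X} (h1 : x ∉ gl s₁) (h2 : x ∈ gl s₂) :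
    x ∈ gl (b • s₁ + s₂) := by
  have he := isGen_res_gl s₂
  obtain ⟨f, hf⟩ := he.exists_eq (res M le_top s₁)
  rw [mem_gl_iff he hf h2] at h1
  have h3 : res M (le_top : gl s₂ ≤ ⊤) (b • s₁ + s₂) =
      (ores (le_top : gl s₂ ≤ ⊤) b * f + 1) • res M (le_top : gl s₂ ≤ ⊤) s₂ := by
    rw [map_add, res_smul, hf, add_smul, one_smul, mul_smul]
  rw [mem_gl_iff he h3 h2]
  rw [Scheme.mem_basicOpen _ _ _ h2] at h1 ⊢
  rw [map_add, map_mul, map_one]
  have h4 : (X.presheaf.germ (gl s₂) x h2).hom (ores (le_top : gl s₂ ≤ ⊤) b) *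
      (X.presheaf.germ (gl s₂) x h2).hom f ∈ IsLocalRing.maximalIdeal (X.presheaf.stalk x) :=
    Ideal.mul_mem_left _ _ h1
  by_contra h5
  have h6 : (1 : X.presheaf.stalk x) ∈ IsLocalRing.maximalIdeal (X.presheaf.stalk x) := by
    have h7 := Ideal.sub_mem _ ((IsLocalRing.mem_maximalIdeal _).2 h5) h4
    rwa [add_sub_cancel_left] at h7
  exact (Ideal.ne_top_iff_one _).1 (IsLocalRing.maximalIdeal.isMaximal _).ne_top h6

/-- The coordinates on the projective line generate. -/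
theorem gl_crd (x : P1 T) : x ∈ gl (crd 1 T 0) ∨ x ∈ gl (crd 1 T 1) := by
  have h1 := (GivenBy.refl (toZ 1 T)).iSup_genLocus
  have h2 := h1.ge (show x ∈ (⊤ : (P1 T).Opens) from trivial)
  rw [Opens.mem_iSup] at h2
  obtain ⟨i, hi⟩ := h2
  fin_cases i
  · exact Or.inl hi
  · exact Or.inr hi

variable {n d : ℕ}

theorem lsec_i {v c : Fin (n + 1) → Γ(T, ⊤)} {i : Fin (n + 1)} (hv : v i = 1) (hc : c i = 0) :
    lsec v c i = crd 1 T 0 := by
  rw [lsec, hv, hc, map_one, map_zero, one_smul, zero_smul, add_zero]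

theorem lsec_j {v c : Fin (n + 1) → Γ(T, ⊤)} {j : Fin (n + 1)} (hc : c j = 1) :
    lsec v c j = ((pr T).appTop (v j)) • crd 1 T 0 + crd 1 T 1 := by
  rw [lsec, hc, map_one, one_smul]

theorem gl_lsec {v c : Fin (n + 1) → Γ(T, ⊤)} {i j : Fin (n + 1)} (hv : v i = 1) (hc : c i = 0) (hcj : c j = 1)
    (x : P1 T) : x ∈ gl (lsec v c i) ∨ x ∈ gl (lsec v c j) := by
  by_cases h : x ∈ gl (crd 1 T 0)
  · left
    rwa [lsec_i hv hc]
  · right
    rw [lsec_j hcj]
    exact mem_gl_add _ h ((gl_crd x).resolve_left h)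

theorem iSup_gl_lsec {v c : Fin (n + 1) → Γ(T, ⊤)} {i j : Fin (n + 1)} (hv : v i = 1) (hc : c i = 0)
    (hcj : c j = 1) : ⨆ a, gl (lsec v c a) = ⊤ := by
  rw [eq_top_iff]
  intro x _
  rw [Opens.mem_iSup]
  rcases gl_lsec hv hc hcj x with h | h
  · exact ⟨_, h⟩
  · exact ⟨_, h⟩

variable {k : Type u} [Field k]

/-- Node D1. -/
theorem exists_map {T : Scheme.{u}} (q : T ⟶ Spec (CommRingCat.of k)) (v c : Fin (n + 1) → Γ(T, ⊤))
    (i j : Fin (n + 1)) (hv : v i = 1) (hc : c i = 0) (hcj : c j = 1) :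
    ∃ r : P1 T ⟶ CohB1.ProjSpace n k, r ≫ CohB1.ProjSpace.toSpec n k = pr T ≫ q ∧ GivenBy r (N T) (lsec v c) :=
  exists_givenBy (pr T ≫ q) (lsec v c) (iSup_gl_lsec hv hc hcj)

end K188.MapP1
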