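import Groth.Agent.Fano.K188.Loc
import Groth.Agent.Fano.K105.ConeDim
import Mathlib.AlgebraicGeometry.AlgClosed.Basic

/-!
# Dimension of the fibres of the evaluation

* `exists_point`: coordinates of a closed point of the hypersurface;
* `dim_fibre`.
-/

set_option autoImplicit false
set_option backward.isDefEq.respectTransparency false
set_option backward.isDefEq.respectTransparency.types false
universe u
open CategoryTheory CategoryTheory.Limits AlgebraicGeometry TopologicalSpace

namespace K188.Dim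

open K390.PnSec Groth.Agent.Fdesc.LocGen Groth.Agent.Dix.ProjProper
open Groth.Agent.Ega2.H295.PnUniq Groth.Agent.Ega2.H295.PnCoord
open K188.LineDef K188.LineRing K188.LinFun K188.LinP1 K188.FamIso W4swstmapratcurves
open K188.QuotSpec K188.Line K188.StChart K188.UChart K594.Cover K188.Sig K188.HChart K188.Loc
open K862.Fib K862.Yon

attribute [local instance] MvPolynomial.gradedAlgebra

variable {k : Type u} [Field k] {n d : ℕ} {G : LefPen.Form n k d}

theorem locallyOfFiniteType_hyp (G : LefPen.Form n k d) : LocallyOfFiniteType (hypOver G).hom := by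
  have h1 : Smooth (CohB1.ProjSpace.toSpec n k) := by
    have := Groth.Agent.Sga5.ProjSmooth.smooth_toSpec n k
    exact SmoothOfRelativeDimension.smooth n (CohB1.ProjSpace.toSpec n k)
  have h2 : IsClosedImmersion (inc G) := inferInstance
  change LocallyOfFiniteType (inc G ≫ CohB1.ProjSpace.toSpec n k)
  infer_instance

theorem bijective_kmap_id : Function.Bijective (kmap (𝟙 (SS k))) := by
  have h1 : kmap (𝟙 (SS k)) = (Scheme.ΓSpecIso (CommRingCat.of k)).inv.hom := by
    ext a
    rw [kmap, Scheme.Hom.id_appTop]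
    rfl
  rw [h1]
  exact ConcreteCategory.bijective_of_isIso (Scheme.ΓSpecIso (CommRingCat.of k)).inv

/-- Coordinates of a closed point. -/
theorem exists_point [IsAlgClosed k] (x : (hypOver G).left) (hx : IsClosed ({x} : Set (hypOver G).left)) :
    ∃ (i : Fin (n + 1)) (w : Fin (n + 1) → k) (pw : SS k ⟶ (hypOver G).left) (e : Spec ((hypOver G).left.residueField x) ≅ SS k),
      w i = 1 ∧ MvPolynomial.eval w G.1 = 0 ∧ pw ≫ (hypOver G).hom = 𝟙 _ ∧
      GivenBy (pw ≫ inc G) (Coh.structureModule _) (fun a => ofFun (kmap (𝟙 (SS k)) (w a))) ∧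
      (hypOver G).left.fromSpecResidueField x = e.hom ≫ pw ∧ ∀ s, inc G (pw s) ∈ Dp (Fin (n + 1)) k i := by
  have := locallyOfFiniteType_hyp G
  obtain ⟨i, hi⟩ := exists_mem_Dp (inc G x)
  let pw : SS k ⟶ (hypOver G).left := pointOfClosedPoint (hypOver G).hom x hx
  have hpw : pw ≫ (hypOver G).hom = 𝟙 _ := pointOfClosedPoint_comp _ _ _
  have hpx : ∀ s, pw s = x := pointOfClosedPoint_apply _ _ _
  obtain ⟨g, hg⟩ := exists_coord_open G i pw (fun t => by rw [hpx]; exact hi)
  choose w hw using fun a => bijective_kmap_id.2 (g.appTop (av G i a))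
  have h1 : GivenBy (pw ≫ inc G) (Coh.structureModule _) (fun a => ofFun (kmap (𝟙 (SS k)) (w a))) := by
    have h2 := givenBy_ofFun_comp (ca_given G i) g
    have h3 : (fun a => g.appTop (av G i a)) = fun a => kmap (𝟙 (SS k)) (w a) := funext fun a => (hw a).symm
    rw [← hg, Category.assoc]
    exact (show (fun a => (ofFun (g.appTop (av G i a)) : Γ(Coh.structureModule (SS k), ⊤))) =
      fun a => ofFun (kmap (𝟙 (SS k)) (w a)) from funext fun a => congrArg ofFun (congrFun h3 a)) ▸ h2
  let r := residueFieldIsoBase (hypOver G).hom x hx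
  refine ⟨i, w, pw, ⟨Spec.map r.inv, Spec.map r.hom, by rw [← Spec.map_comp, r.hom_inv_id, Spec.map_id],
    by rw [← Spec.map_comp, r.inv_hom_id, Spec.map_id]⟩, ?_, ?_, hpw, h1, ?_, ?_⟩
  · refine bijective_kmap_id.1 ?_
    rw [hw, av_self, map_one, map_one]
  · have h2 := (exists_lift_ofFun (q := 𝟙 (SS k)) (by rw [Category.assoc]; exact hpw) h1 G).1 ⟨pw, rfl⟩
    refine bijective_kmap_id.1 ?_
    rw [map_zero, ← h2]
    exact MvPolynomial.eval₂_comp (kmap (𝟙 (SS k))) w G.1
  · change _ = Spec.map r.inv ≫ Spec.map r.hom ≫ _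
    rw [← Spec.map_comp_assoc, r.hom_inv_id, Spec.map_id, Category.id_comp]
  · intro s
    rw [hpx]
    exact hi

section Fibre

variable [IsAlgClosed k] (x : (hypOver G).left)

/-- The stack of lines through `x`. -/
noncomputable abbrev FY (x : (hypOver G).left) : AlgSt.Cat (SS k) :=
  AlgSt.fullSub (MS G) (fun B => StMap.MapsThrough 0 ((hypOver G).left.fromSpecResidueField x) B.obj)

instance isFibGrpd_FY : FibCat.IsFibGrpd (FY x).p := (K655.MapPre.isPrestack_mapsThrough _ _ _ _ _ _ 0 _).1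

variable {x} {i : Fin (n + 1)} {w : Fin (n + 1) → k} {pw : SS k ⟶ (hypOver G).left}
  {e : Spec ((hypOver G).left.residueField x) ≅ SS k}
  (hw : w i = 1) (hpw : pw ≫ (hypOver G).hom = 𝟙 _)
  (hg : GivenBy (pw ≫ inc G) (Coh.structureModule _) (fun a => ofFun (kmap (𝟙 (SS k)) (w a))))
  (he : (hypOver G).left.fromSpecResidueField x = e.hom ≫ pw)

include hpw he in
/-- Objects through `x`. -/
theorem mapsThrough_iff (A : StMap.MapFamObj (SS k) 1 (hypOver G)) :
    StMap.MapsThrough 0 ((hypOver G).left.fromSpecResidueField x) A ↔ A.sect 0 ≫ A.map = A.base.hom ≫ pw := by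
  constructor
  · rintro ⟨t, ht⟩
    rw [he] at ht
    have h1 : (A.sect 0 ≫ A.map) ≫ (hypOver G).hom = A.base.hom := by
      rw [Category.assoc, A.map_over, ← Category.assoc, A.sect_f, Category.id_comp]
    rw [← ht, Category.assoc, Category.assoc, hpw, Category.comp_id] at h1
    rw [← ht, ← h1, Category.assoc]
  · intro h
    exact ⟨A.base.hom ≫ e.inv, by rw [he, Category.assoc, Iso.inv_hom_id_assoc, h]⟩

include hg in
theorem given_comp {T : Scheme.{u}} (q : T ⟶ SS k) :
    GivenBy ((q ≫ pw) ≫ inc G) (Coh.structureModule _) (fun a => ofFun (kmap q (w a))) := by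
  have h1 := givenBy_ofFun_comp hg q
  have h2 : (fun a => (ofFun (q.appTop (kmap (𝟙 (SS k)) (w a))) : Γ(Coh.structureModule T, ⊤))) =
      fun a => ofFun (kmap q (w a)) := by
    funext a
    rw [kmap_appTop, Category.comp_id]
  rw [Category.assoc]
  exact h2 ▸ h1

include hpw hg in
theorem through_fD (j : Fin (n + 1)) : (dF (fD G i j hw)).sect 0 ≫ (dF (fD G i j hw)).map =
    (dF (fD G i j hw)).base.hom ≫ pw := by
  have h1 := givenBy_pt_comp (dm_given (fD G i j hw))
  rw [← Category.assoc] at h1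
  have h2 := given_comp hg (FO G i j w).hom
  refine hyp_ext (x := fun a => kmap (FO G i j w).hom (w a)) ?_ h1 h2
  change (pt _ ≫ dm (fD G i j hw)) ≫ (hypOver G).hom = ((FO G i j w).hom ≫ pw) ≫ (hypOver G).hom
  rw [Category.assoc, Category.assoc, dm_over, pt_pr_assoc, hpw, Category.comp_id]

/-- The object of the chart of the fibre. -/
noncomputable def fO (hA : StdStable G) (j : Fin (n + 1)) : (FY x).p.Fiber (FO G i j w) :=
  ⟨⟨⟨dF (fD G i j hw), stab_dF hA _⟩, (mapsThrough_iff hpw he _).2 (through_fD hw hpw hg j)⟩, rfl⟩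

theorem given_A (A : StMap.MapFamObj (SS k) 1 (hypOver G)) (h : A.sect 0 ≫ A.map = A.base.hom ≫ pw)
    (hg : GivenBy (pw ≫ inc G) (Coh.structureModule _) (fun a => ofFun (kmap (𝟙 (SS k)) (w a)))) :
    GivenBy (A.sect 0 ≫ A.map ≫ inc G) (Coh.structureModule _) (fun a => ofFun (kmap A.base.hom (w a))) := by
  rw [← Category.assoc, h]
  exact given_comp hg _

theorem openChart_f (hA : StdStable G) (hB : GeoFib k n) (j : Fin (n + 1)) : OpenChart (fO hw hpw hg he hA j) where
  sub z := ⟨fun a b => by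
    have h1 : a.hom.hom = b.hom.hom := (subsingleton_hom_f (G := G) (i := i) (j := j) hw (A := z.obj.obj)).elim _ _
    ext1
    ext1
    exact h1⟩
  op {T} t := by
    obtain ⟨t, rfl⟩ := t
    obtain ⟨W, hW⟩ := exists_locus i j t.obj.obj t.obj.property.1.2.1
    refine ⟨W, fun {T'} g z b hb => ?_⟩
    obtain ⟨z, rfl⟩ := z
    have h1 : g = (FY x).p.map b := IsHomLift.eq_of_isHomLift (FY x).p g b
    subst h1
    have h2 : Nonempty (z ⟶ (fO hw hpw hg he hA j).1) ↔ Nonempty (z.obj.obj ⟶ dF (fD G i j hw)) :=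
      ⟨fun ⟨a⟩ => ⟨a.hom.hom⟩, fun ⟨a⟩ => ⟨⟨⟨a⟩⟩⟩⟩
    exact h2.trans ((nonempty_hom_f hw hB z.obj.property
      (given_A z.obj.obj ((mapsThrough_iff hpw he _).1 z.property) hg)).trans (hW b.hom.hom))

end Fibre

/-- The dimension of the fibres of the evaluation. -/
theorem dim_fibre [IsAlgClosed k] (hA : StdStable G) (hB : GeoFib k n) (hG : Good G) (hd : 1 ≤ d) (hdn : d + 3 ≤ n)
    (x : (hypOver G).left) (hx : IsClosed ({x} : Set (hypOver G).left)) :
    topologicalKrullDim (AlgSt.Points (FY x)) = ((n - d - 1 : ℕ) : WithBot ℕ∞) := by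
  obtain ⟨i, w, pw, e, hw, h0, hpw, hg, he, hi⟩ := exists_point x hx
  let J : Type := {j : Fin (n + 1) // i ≠ j}
  let X : ∀ j : J, FibCat.overCat (FO G i j.1 w) ⥤ᵇ FY x := fun j => ofObj (fO hw hpw hg he hA j.1)
  have hX : ∀ j, OpenChart (objOf (X j)) := fun j =>
    OpenChart.of_hom (openChart_f hw hpw hg he hA hB j.1) (inv (objOfOfObj (fO hw hpw hg he hA j.1)))
  have hc := cover_of_algClosed (𝒳 := FY x) (fun j : J => FO G i j.1 w) X (fun Ω _ _ w' t => by
    obtain ⟨t, ht⟩ := t
    have h1 := (mapsThrough_iff hpw he _).1 t.property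
    obtain ⟨j, hij, hj⟩ := exists_partner' (w := w') hB t.obj.obj ht t.obj.property i (fun s => by
      have h2 : t.obj.obj.map (t.obj.obj.sect 0 s) = pw (t.obj.obj.base.hom s) := by
        rw [← Scheme.Hom.comp_apply, h1, Scheme.Hom.comp_apply]
      rw [h2]
      exact hi _)
    obtain ⟨a⟩ := (nonempty_hom_f (j := j) hw hB t.obj.property (given_A t.obj.obj h1 hg)).2 hj
    exact ⟨⟨j, hij⟩, ⟨(⟨⟨a⟩⟩ : t ⟶ (fO hw hpw hg he hA j).1) ≫ (inv (objOfOfObj (fO hw hpw hg he hA j))).1⟩⟩)
  rw [dim_points (fun j : J => FO G i j.1 w) X hX hc]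
  have hdim : ∀ j : J, topologicalKrullDim (FO G i j.1 w).left = ringKrullDim (FRing G i j.1 w) := fun j =>
    PrimeSpectrum.topologicalKrullDim_eq_ringKrullDim _
  simp only [hdim]
  apply le_antisymm
  · refine iSup_le fun j => ?_
    rcases subsingleton_or_nontrivial (FRing G i j.1 w) with h1 | h1
    · rw [ringKrullDim_eq_bot_of_subsingleton]
      exact bot_le
    · exact (K105.ConeDim.ringKrullDim_FRing G hG hd hdn i j.1 j.2 w hw h0 h1).le
  · obtain ⟨j, hij, hj⟩ := K105.ConeDim.exists_nontrivial_FRing G hd hdn i w hw h0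
    refine le_trans ?_ (le_iSup _ (⟨j, hij⟩ : J))
    exact (K105.ConeDim.ringKrullDim_FRing G hG hd hdn i j hij w hw h0 hj).ge

end K188.Dim
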