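import Groth.Agent.Fano.K188.LinP1
import Groth.Agent.Fano.K980.SecP1
import Groth.Agent.S2759
import Groth.Prelude.Def_StMap

/-!
# Families of lines

* `exists_lsec`: over a geometric point a stable map is a linear map from the projective line;
* `exists_partner`: charts at a geometric point;
* `exists_iso_std`: node C2.
-/

set_option autoImplicit false
universe u
open CategoryTheory CategoryTheory.Limits AlgebraicGeometry TopologicalSpace

namespace K188.FamIso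

open K390.PnSec Groth.Agent.Fdesc.LocGen Groth.Agent.Dix.ProjProper
open Groth.Agent.Ega2.H295.PnUniq Groth.Agent.Ega2.H295.PnCoord
open K188.LineDef K188.MapP1 K188.HypFac K188.LinFun K188.OnHypL K188.LinP1

attribute [local instance] MvPolynomial.gradedAlgebra

variable {X Y T : Scheme.{u}} {k : Type u} [Field k] {n d : ℕ}

/-- Stable maps of degree one from curves of genus zero with one marked point have source `P^1`. -/
def GeoFib (k : Type u) [Field k] (n : ℕ) : Prop :=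
  ∀ (Ω : Type u) [Field Ω] [IsAlgClosed Ω] (C : Scheme.{u}) (q : C ⟶ Spec (CommRingCat.of Ω))
    (x : Fin 1 → C) (μ : C ⟶ CohB1.ProjSpace n k) (a : Spec (CommRingCat.of Ω) ⟶ Spec (CommRingCat.of k)),
    μ ≫ CohB1.ProjSpace.toSpec n k = q ≫ a → StMap.IsStableMap Ω C q 0 x μ →
    (letI : C.Over (Spec (CommRingCat.of Ω)) := ⟨q⟩; Curv2.deg Ω C ((Scheme.Modules.pullback μ).obj (O1 n k)) 1 = 1) →
    ∃ (e : C ≅ CohB1.ProjSpace 1 Ω), e.hom ≫ CohB1.ProjSpace.toSpec 1 Ω = q ∧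
      Nonempty ((Scheme.Modules.pullback μ).obj (O1 n k) ≅ (Scheme.Modules.pullback e.hom).obj (O1 1 Ω))

theorem exists_lsec_of_iso {r : P1 T ⟶ CohB1.ProjSpace n k}
    (τ : (Scheme.Modules.pullback r).obj (O1 n k) ≅ N T) :
    ∃ v c : Fin (n + 1) → Γ(T, ⊤), GivenBy r (N T) (lsec v c) := by
  have h1 := (GivenBy.refl r).of_iso τ
  choose v c hvc using fun a => K980.SecP1.exists_eq_lsec (τ.hom.app ⊤ (tsec r a))
  refine ⟨v, c, ?_⟩
  have h2 : (fun i => τ.hom.app ⊤ (tsec r i)) = lsec v c := funext hvc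
  exact h2 ▸ h1

section Geo

variable (hB : GeoFib k n) (Ω : Type u) [Field Ω] [IsAlgClosed Ω] {C : Scheme.{u}}
  (q : C ⟶ Spec (CommRingCat.of Ω)) (x : Fin 1 → C) (μ : C ⟶ CohB1.ProjSpace n k)
  (a : Spec (CommRingCat.of Ω) ⟶ Spec (CommRingCat.of k))
  (ha : μ ≫ CohB1.ProjSpace.toSpec n k = q ≫ a)
  (h : StMap.IsStableMap Ω C q 0 x μ)
  (hdeg : letI : C.Over (Spec (CommRingCat.of Ω)) := ⟨q⟩
    Curv2.deg Ω C ((Scheme.Modules.pullback μ).obj (O1 n k)) 1 = 1)

include hB ha h hdeg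

theorem exists_lsec : ∃ (e : P1 (Spec (CommRingCat.of Ω)) ≅ C) (v c : Fin (n + 1) → Γ(Spec (CommRingCat.of Ω), ⊤)),
    e.hom ≫ q = pr _ ∧ GivenBy (e.hom ≫ μ) (N _) (lsec v c) := by
  obtain ⟨e₀, he₀, ⟨τ⟩⟩ := hB Ω C q x μ a ha h hdeg
  obtain ⟨ε, hε, -, hε'⟩ := exists_iso_P1 Ω
  obtain ⟨τ', -⟩ := hε'
  let e : P1 (Spec (CommRingCat.of Ω)) ≅ C := ε.symm ≪≫ e₀.symm
  have he : e.hom ≫ e₀.hom = ε.inv := by simp [e]
  have hq : e.hom ≫ q = pr _ := by
    rw [← he₀, ← Category.assoc, he, ← hε, Iso.inv_hom_id_assoc]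
  let τ₁ : (Scheme.Modules.pullback (e.hom ≫ μ)).obj (O1 n k) ≅ N (Spec (CommRingCat.of Ω)) :=
    (Scheme.Modules.pullbackComp e.hom μ).symm.app (O1 n k) ≪≫
      (Scheme.Modules.pullback e.hom).mapIso τ ≪≫ (Scheme.Modules.pullbackComp e.hom e₀.hom).app (O1 1 Ω) ≪≫
      (Scheme.Modules.pullbackCongr he).app (O1 1 Ω) ≪≫ τ'
  obtain ⟨v, c, hvc⟩ := exists_lsec_of_iso τ₁
  exact ⟨e, v, c, hq, hvc⟩

/-- Charts at a geometric point. -/
theorem exists_partner (i : Fin (n + 1)) (hi : μ (x 0) ∈ Dp (Fin (n + 1)) k i) :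
    ∃ j : Fin (n + 1), i ≠ j ∧ ∀ c : C, μ c ∈ Dp (Fin (n + 1)) k i ∨ μ c ∈ Dp (Fin (n + 1)) k j := by
  obtain ⟨e, v, c, he, hvc⟩ := exists_lsec hB Ω q x μ a ha h hdeg
  have key : ∀ y : C, (e.hom ≫ μ) (e.inv y) = μ y := fun y => by
    rw [← Scheme.Hom.comp_apply, Iso.inv_hom_id_assoc]
  obtain ⟨j, hij, hj⟩ := exists_chart_lsec hvc i (e.inv (x 0)) (by rw [key]; exact hi)
  refine ⟨j, hij, fun y => ?_⟩
  have h1 := hj (e.inv y)
  rwa [key] at h1

end Geo

theorem smooth_pr (T : Scheme.{u}) : Smooth (pr T) :=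
  MorphismProperty.of_isPullback (isPullback_toZ 1 T)
    (have := Groth.Agent.Sga5.ProjSmooth.smooth_toSpec 1 (ULift.{u} ℤ)
     SmoothOfRelativeDimension.smooth 1 (CohB1.ProjSpace.toSpec 1 (ULift.{u} ℤ)))

/-- Global coordinates along a section landing in a chart. -/
theorem exists_coord {C : Scheme.{u}} {L : C.Modules} (hL : PicF.IsInvertible L) {s : Fin (n + 1) → Γ(L, ⊤)}
    (σ : T ⟶ C) (i : Fin (n + 1)) (hi : ∀ t : T, σ t ∈ gl (s i)) :
    ∃ (w : Fin (n + 1) → Γ(T, ⊤)) (τ : (Scheme.Modules.pullback σ).obj L ≅ Coh.structureModule T), w i = 1 ∧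
      ∀ a, τ.hom.app ⊤ (pullTop σ (s a)) = ofFun (w a) := by
  have h1 : IsGen (pullTop σ (s i)) := by
    have h2 : (⊤ : T.Opens) ≤ gl (pullTop σ (s i)) := by
      rw [gl, genLocus_pullTop σ hL (s i)]
      exact fun t _ => hi t
    have h3 := (le_gl_iff _ _).1 h2
    rwa [res_refl] at h3
  obtain ⟨τ, hτ⟩ := exists_iso_of_isGen h1
  refine ⟨fun a => ofFun.symm (τ.hom.app ⊤ (pullTop σ (s a))), τ, ?_, fun a => ?_⟩
  · change ofFun.symm (τ.hom.app ⊤ (pullTop σ (s i))) = 1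
    rw [hτ]
    exact ofFun.symm_apply_apply 1
  · rw [AddEquiv.apply_symm_apply]

theorem pullTop_smul_add {L : Y.Modules} (g : X ⟶ Y) (b : Γ(Y, ⊤)) (s₁ s₂ : Γ(L, ⊤)) :
    pullTop g (b • s₁ + s₂) = (g.appTop b) • pullTop g s₁ + pullTop g s₂ := by
  have h1 : pullTop g (b • s₁ + s₂) = pullTop g (b • s₁) + pullTop g s₂ := pullSec_add g _ _
  rw [h1]
  congr 1
  exact pullSec_smul g b s₁

theorem app_smul_add {L L' : Y.Modules} (τ : L ⟶ L') (b : Γ(Y, ⊤)) (s₁ s₂ : Γ(L, ⊤)) :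
    τ.app ⊤ (b • s₁ + s₂) = b • τ.app ⊤ s₁ + τ.app ⊤ s₂ := by
  rw [map_add]
  congr 1
  exact Scheme.Modules.Hom.app_smul τ b s₁

section Fam

variable (hB : GeoFib k n) {C : Scheme.{u}} (qT : T ⟶ Spec (CommRingCat.of k)) (f : C ⟶ T) (σ : T ⟶ C)
    (hσ : σ ≫ f = 𝟙 T) (μ : C ⟶ CohB1.ProjSpace n k) (hμ : μ ≫ CohB1.ProjSpace.toSpec n k = f ≫ qT)
    (hst : StMap.IsStableMapFam f (fun _ : Fin 1 => σ) (fun _ => hσ) μ 0)
    (hdeg : StMap.IsFibDeg f μ (O1 n k) 1) (i j : Fin (n + 1))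
    (hi : ∀ t : T, μ (σ t) ∈ Dp (Fin (n + 1)) k i)
    (hj : ∀ c : C, μ c ∈ Dp (Fin (n + 1)) k i ∨ μ c ∈ Dp (Fin (n + 1)) k j)

include hB hσ hμ hst hdeg hi hj

/-- The morphism `[s_i : s_j - w s_i]` is an isomorphism. -/
theorem isIso_phi {M : C.Modules} {s : Fin (n + 1) → Γ(M, ⊤)} (hs : GivenBy μ M s) (w : Γ(T, ⊤)) (φ : C ⟶ P1 T)
    (hφ : φ ≫ pr T = f) (hφ' : GivenBy (φ ≫ toZ 1 T) M ![s i, (f.appTop (-w)) • s i + s j]) : IsIso φ := by
  have : Flat f := hst.1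
  have : LocallyOfFinitePresentation f := hst.2.2.1
  have : Smooth (pr T) := smooth_pr T
  have hlfp : LocallyOfFinitePresentation (pr T) := inferInstance
  refine (Groth.Agent.S2759.result (pr T) f φ hφ).2.2 fun t => ?_
  -- geometric point
  let K := T.residueField t
  let Ω := AlgebraicClosure K
  let u : Spec (CommRingCat.of Ω) ⟶ Spec K := Spec.map (CommRingCat.ofHom (algebraMap K Ω))
  let g : Spec (CommRingCat.of Ω) ⟶ T := u ≫ T.fromSpecResidueField t
  -- the geometric fibre of the projective line covers the fibre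
  let F := (pr T).fiber t
  have hF : IsPullback ((pr T).fiberι t) ((pr T).fiberToSpecResidueField t) (pr T) (T.fromSpecResidueField t) :=
    IsPullback.of_hasPullback _ _
  let b : P1 (Spec (CommRingCat.of Ω)) ⟶ F := hF.lift (pmap g) (pr _ ≫ u) (by rw [pmap_pr, Category.assoc])
  have hb1 : b ≫ (pr T).fiberι t = pmap g := hF.lift_fst _ _ _
  have hb2 : b ≫ (pr T).fiberToSpecResidueField t = pr _ ≫ u := hF.lift_snd _ _ _
  have hbp : IsPullback b (pr _) ((pr T).fiberToSpecResidueField t) u := by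
    refine IsPullback.of_right (h₁₂ := (pr T).fiberι t) (h₂₂ := T.fromSpecResidueField t) ?_ hb2 hF
    rw [hb1]
    exact isPullback_pmap g
  have hu : (@Surjective ⊓ @Flat ⊓ @QuasiCompact : MorphismProperty Scheme.{u}) u := by
    refine ⟨⟨⟨fun z => ⟨IsLocalRing.closedPoint Ω, Subsingleton.elim _ _⟩⟩, ?_⟩, inferInstance⟩
    change Flat u
    rw [Flat.SpecMap_iff]
    exact RingHom.flat_algebraMap_iff.2 inferInstance
  have hb : (@Surjective ⊓ @Flat ⊓ @QuasiCompact : MorphismProperty Scheme.{u}) b :=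
    MorphismProperty.of_isPullback hbp.flip hu
  -- the geometric fibre of the family
  let Xt := pullback φ (pmap g)
  let ι : Xt ⟶ C := pullback.fst φ (pmap g)
  let ψ : Xt ⟶ P1 (Spec (CommRingCat.of Ω)) := pullback.snd φ (pmap g)
  have hψ : IsPullback ι ψ φ (pmap g) := IsPullback.of_hasPullback _ _
  have hX : IsPullback ι (ψ ≫ pr _) f g := by
    have h1 := hψ.paste_vert (isPullback_pmap g)
    rwa [hφ] at h1
  suffices hiso : IsIso ψ by
    have hG : IsPullback (pullback.fst φ ((pr T).fiberι t)) (pullback.snd φ ((pr T).fiberι t)) φ ((pr T).fiberι t) :=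
      IsPullback.of_hasPullback _ _
    have hsq : IsPullback (hG.lift ι (ψ ≫ b) (by rw [Category.assoc, hb1, hψ.w])) ψ
        (pullback.snd φ ((pr T).fiberι t)) b := by
      refine IsPullback.of_right (h₁₂ := pullback.fst φ ((pr T).fiberι t)) (h₂₂ := (pr T).fiberι t) ?_
        (hG.lift_snd _ _ _) hG
      rw [hG.lift_fst, hb1]
      exact hψ
    exact MorphismProperty.of_isPullback_of_descendsAlong (P := MorphismProperty.isomorphisms Scheme.{u})
      hsq.flip hb hiso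
  have h1 := hst.2.2.2 Ω g Xt ι (ψ ≫ pr _) hX
  have h2 := hdeg Ω g Xt ι (ψ ≫ pr _) hX
  obtain ⟨e, v, c, he, hvc⟩ := exists_lsec hB Ω (ψ ≫ pr _) _ (ι ≫ μ) (g ≫ qT) (by
    rw [Category.assoc, hμ, ← Category.assoc, hX.w, Category.assoc]) h1 h2
  let r₀ : P1 (Spec (CommRingCat.of Ω)) ⟶ C := e.hom ≫ ι
  have hr₀f : r₀ ≫ f = pr _ ≫ g := by
    rw [Category.assoc, hX.w, ← Category.assoc, he]
  have hvc' : GivenBy (r₀ ≫ μ) (N _) (lsec v c) := by rw [Category.assoc]; exact hvc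
  obtain ⟨θ, hθ⟩ := (hs.comp r₀).exists_iso hvc'
  let W := g.appTop (-w)
  let v' : Fin (1 + 1) → Γ(Spec (CommRingCat.of Ω), ⊤) := ![v i, W * v i + v j]
  let c' : Fin (1 + 1) → Γ(Spec (CommRingCat.of Ω), ⊤) := ![c i, W * c i + c j]
  have h3 : GivenBy (r₀ ≫ φ ≫ toZ 1 T) (N _) (lsec v' c') := by
    have h4 := (hφ'.comp r₀).of_iso θ
    have h5 : (fun a => θ.hom.app ⊤ (pullTop r₀ (![s i, (f.appTop (-w)) • s i + s j] a))) =
        lsec v' c' := by
      funext a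
      fin_cases a
      · exact hθ i
      · change θ.hom.app ⊤ (pullTop r₀ ((f.appTop (-w)) • s i + s j)) = lsec v' c' 1
        have h6 : r₀.appTop (f.appTop (-w)) = (pr _).appTop W := by
          have h7 : f.appTop ≫ r₀.appTop = g.appTop ≫ (pr _).appTop := by
            rw [← Scheme.Hom.comp_appTop, ← Scheme.Hom.comp_appTop, hr₀f]
          exact congr($h7 (-w))
        have h8 : θ.hom.app ⊤ (pullTop r₀ (s i)) = lsec v c i := hθ i
        have h9 : θ.hom.app ⊤ (pullTop r₀ (s j)) = lsec v c j := hθ j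
        have h10 := pullTop_smul_add r₀ (f.appTop (-w)) (s i) (s j)
        refine (congrArg (θ.hom.app ⊤) h10).trans ((app_smul_add θ.hom _ _ _).trans ?_)
        refine (congrArg₂ (fun a b => a + b) (congrArg₂ (fun a b => a • b) h6 h8) h9).trans ?_
        change _ = ((pr _).appTop (W * v i + v j)) • crd 1 _ 0 + ((pr _).appTop (W * c i + c j)) • crd 1 _ 1
        simp only [lsec, map_add, map_mul, smul_add, add_smul, mul_smul]
        abel
    exact h5 ▸ h4
  have hχ : (e.hom ≫ ψ) ≫ toZ 1 _ = r₀ ≫ φ ≫ toZ 1 T := by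
    have h4 : ψ ≫ toZ 1 _ = ι ≫ φ ≫ toZ 1 T := by
      rw [reassoc_of% hψ.w, pmap_toZ]
    rw [Category.assoc, h4, Category.assoc]
  have hχ' : GivenBy ((e.hom ≫ ψ) ≫ toZ 1 _) (N _) (lsec v' c') := by rw [hχ]; exact h3
  have hne : v i ≠ 0 ∨ c i ≠ 0 := by
    by_contra hcon
    push Not at hcon
    let y : Xt := (hX.lift (g ≫ σ) (𝟙 _) (by rw [Category.assoc, hσ, Category.comp_id, Category.id_comp]))
      (IsLocalRing.closedPoint Ω)
    have hy : ι y = σ (g (IsLocalRing.closedPoint Ω)) := by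
      change ι ((hX.lift _ _ _) _) = _
      rw [← Scheme.Hom.comp_apply, hX.lift_fst, Scheme.Hom.comp_apply]
    have h4 : (e.hom ≫ ι ≫ μ) (e.inv y) ∈ Dp (Fin (n + 1)) k i := by
      rw [← Scheme.Hom.comp_apply, Iso.inv_hom_id_assoc, Scheme.Hom.comp_apply, hy]
      exact hi _
    have h5 : e.inv y ∈ gl (lsec v c i) := by
      rw [← preimage_Dp hvc i]
      exact h4
    have h6 : lsec v c i = 0 := by rw [lsec, hcon.1, hcon.2, map_zero, zero_smul, zero_smul, add_zero]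
    rw [h6] at h5
    exact notMem_gl_zero isInvertible_N _ h5
  obtain ⟨j', hj'⟩ := exists_isUnit_det hχ' 0 hne
  have hdet : IsUnit (v' 0 * c' 1 - v' 1 * c' 0) := by
    fin_cases j'
    · exfalso
      have h4 : v' 0 * c' 0 - v' 0 * c' 0 = 0 := sub_self _
      have h5 : IsUnit (v' 0 * c' 0 - v' 0 * c' 0) := hj'
      rw [h4, isUnit_iff_ne_zero'] at h5
      exact h5 rfl
    · exact hj'
  have h4 : (e.hom ≫ ψ) ≫ pr _ = pr _ := by rw [Category.assoc]; exact he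
  have h5 := isIso_of_lsec h4 hχ' hdet
  exact IsIso.of_isIso_comp_left e.hom ψ

/-- Node C2. -/
theorem exists_iso_std :
    ∃ (e : P1 T ≅ C) (v c : Fin (n + 1) → Γ(T, ⊤)), e.hom ≫ f = pr T ∧ pt T ≫ e.hom = σ ∧ v i = 1 ∧ c i = 0 ∧
      c j = 1 ∧ GivenBy (e.hom ≫ μ) (N T) (lsec v c) := by
  obtain ⟨M, s, hs, hL⟩ : ∃ (M : C.Modules) (s : Fin (n + 1) → Γ(M, ⊤)), GivenBy μ M s ∧ PicF.IsInvertible M :=
    ⟨_, _, GivenBy.refl μ, isInvertible_pullback _ (isInvertible_O1 n k)⟩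
  have hi' : ∀ t : T, σ t ∈ gl (s i) := fun t => by
    rw [← preimage_Dp hs i]
    exact hi t
  obtain ⟨w, τ, hw, hτ⟩ := exists_coord hL σ i hi'
  let t₁ : Γ(M, ⊤) := (f.appTop (-(w j))) • s i + s j
  obtain ⟨φ₀, hφ₀⟩ := exists_givenBy' (M := M) (![s i, t₁] : Fin (1 + 1) → _) (by
    rw [eq_top_iff]
    intro c _
    rw [Opens.mem_iSup]
    by_cases h1 : c ∈ gl (s i)
    · exact ⟨0, h1⟩
    · refine ⟨1, ?_⟩
      refine mem_gl_add _ h1 ?_
      have h2 := (hj c).resolve_left (fun h3 => h1 (by rw [← preimage_Dp hs i]; exact h3))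
      rw [← preimage_Dp hs j]
      exact h2)
  let φ : C ⟶ P1 T := liftP φ₀ f
  have hφ1 : φ ≫ toZ 1 T = φ₀ := liftP_toZ _ _
  have hφ2 : φ ≫ pr T = f := liftP_toBase _ _
  have hφ3 : GivenBy (φ ≫ toZ 1 T) (M) ![s i, t₁] := by rw [hφ1]; exact hφ₀
  have hiso : IsIso φ := isIso_phi hB qT f σ hσ μ hμ hst hdeg i j hi hj hs (w j) φ hφ2 hφ3
  have hσφ : σ ≫ φ = pt T := by
    refine hom_ext_over ?_ ?_
    · have h1 := (hφ3.comp σ).of_iso τ
      have h2 : (fun a => τ.hom.app ⊤ (pullTop σ ((![s i, t₁] : Fin (1 + 1) → _) a))) =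
          (fun a => ofFun ((![1, 0] : Fin (1 + 1) → Γ(T, ⊤)) a)) := by
        funext a
        fin_cases a
        · exact (hτ i).trans (congrArg ofFun hw)
        · have h3 := pullTop_smul_add σ (f.appTop (-(w j))) (s i) (s j)
          refine (congrArg (τ.hom.app ⊤) h3).trans ((app_smul_add τ.hom _ _ _).trans ?_)
          have h4 : σ.appTop (f.appTop (-(w j))) = -(w j) := by
            have h5 : f.appTop ≫ σ.appTop = 𝟙 _ := by rw [← Scheme.Hom.comp_appTop, hσ, Scheme.Hom.id_appTop]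
            exact congr($h5 (-(w j)))
          refine (congrArg₂ (fun a b => a + b) (congrArg₂ (fun a b => a • b) h4 (hτ i)) (hτ j)).trans ?_
          change -(w j) • (ofFun (w i) : Γ(Coh.structureModule T, ⊤)) + ofFun (w j) = ofFun 0
          have h6 := ofFun_smul_add (-(w j)) 1 (w i) (w j)
          rw [one_smul] at h6
          rw [h6, hw]
          congr 1
          ring
      have h3 : GivenBy (σ ≫ φ ≫ toZ 1 T) (Coh.structureModule T)
          (fun a => ofFun ((![1, 0] : Fin (1 + 1) → Γ(T, ⊤)) a)) := h2 ▸ h1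
      rw [Category.assoc]
      exact h3.unique' givenBy_pt
    · rw [Category.assoc, hφ2, hσ, pt_pr]
  let e : P1 T ≅ C := (asIso φ).symm
  have he : e.hom ≫ φ = 𝟙 _ := IsIso.inv_hom_id φ
  have hef : e.hom ≫ f = pr T := by rw [← hφ2, ← Category.assoc, he, Category.id_comp]
  have hes : pt T ≫ e.hom = σ := by
    rw [← hσφ, Category.assoc]
    exact (congrArg (fun z => σ ≫ z) (IsIso.hom_inv_id φ)).trans (Category.comp_id _)
  have h1 : GivenBy (toZ 1 T) ((Scheme.Modules.pullback e.hom).obj (M))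
      (fun a => pullTop e.hom ((![s i, t₁] : Fin (1 + 1) → _) a)) := by
    have h2 := hφ3.comp e.hom
    have h3 : e.hom ≫ φ ≫ toZ 1 T = toZ 1 T := by rw [← Category.assoc, he, Category.id_comp]
    rwa [h3] at h2
  obtain ⟨θ, hθ⟩ := h1.exists_iso (GivenBy.refl (toZ 1 T))
  have hθ0 : θ.hom.app ⊤ (pullTop e.hom (s i)) = crd 1 T 0 := hθ 0
  have hθ1 : θ.hom.app ⊤ (pullTop e.hom t₁) = crd 1 T 1 := hθ 1
  have hθj : θ.hom.app ⊤ (pullTop e.hom (s j)) = ((pr T).appTop (w j)) • crd 1 T 0 + crd 1 T 1 := by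
    have h3 := pullTop_smul_add e.hom (f.appTop (-(w j))) (s i) (s j)
    have h4 := (congrArg (θ.hom.app ⊤) h3).trans (app_smul_add θ.hom _ _ _)
    have h5 : e.hom.appTop (f.appTop (-(w j))) = - (pr T).appTop (w j) := by
      have h6 : f.appTop ≫ e.hom.appTop = (pr T).appTop := by rw [← Scheme.Hom.comp_appTop, hef]
      exact (congr($h6 (-(w j)))).trans (map_neg _ _)
    rw [h5, hθ0] at h4
    have h7 := hθ1.symm.trans h4
    rw [h7, neg_smul]
    abel
  choose v c hvc using fun a => K980.SecP1.exists_eq_lsec (θ.hom.app ⊤ (pullTop e.hom (s a)))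
  have h2 := (hs.comp e.hom).of_iso θ
  have h3 : (fun a => θ.hom.app ⊤ (pullTop e.hom (s a))) = lsec v c := funext hvc
  have hvi := K980.SecP1.pair_eq (a := v i) (b := c i) (a' := 1) (b' := 0) (by
    rw [← hvc i, hθ0, map_one, map_zero, one_smul, zero_smul, add_zero])
  have hvj := K980.SecP1.pair_eq (a := v j) (b := c j) (a' := w j) (b' := 1) (by
    rw [← hvc j, hθj, map_one, one_smul])
  exact ⟨e, v, c, hef, hes, hvi.1, hvi.2, hvj.2, h3 ▸ h2⟩

end Fam

end K188.FamIso
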