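import Groth.Agent.Fano.K188.Sig
import Groth.Agent.Fano.K166.LineFlat

/-!
# The charts of the hypersurface

* `exists_lift_ofFun`: maps to the hypersurface with global coordinates;
* `ca G i : Spec (ARing G i) ⟶ X`, an open immersion;
* `pt_dm`: the evaluation in the charts; `flat_ev`.
-/

set_option autoImplicit false
universe u
open CategoryTheory CategoryTheory.Limits AlgebraicGeometry TopologicalSpace

namespace K188.HChart

open K390.PnSec Groth.Agent.Fdesc.LocGen Groth.Agent.Dix.ProjProper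
open Groth.Agent.Ega2.H295.PnUniq Groth.Agent.Ega2.H295.PnCoord
open K188.LineDef K188.LineRing K188.MapP1 K188.HypFac K188.LinFun K188.OnHypL K188.LinP1 K188.FamIso W4swstmapratcurves
open K188.QuotSpec K188.Line K188.StChart K188.UChart K594.Cover K188.Sig
open Groth.Agent.Lefpen.H711.PencilMap

attribute [local instance] MvPolynomial.gradedAlgebra

variable {X Y T T' : Scheme.{u}} {k : Type u} [Field k] {n d : ℕ}

theorem isInvertible_structure : PicF.IsInvertible (Coh.structureModule T) := by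
  rw [isInvertible_iff]
  exact fun x => ⟨⊤, one ⊤, trivial, isGen_one ⊤⟩

/-- Maps to the hypersurface with global coordinates. -/
theorem exists_lift_ofFun {q : T ⟶ SS k} {r : T ⟶ CohB1.ProjSpace n k} (hr : r ≫ CohB1.ProjSpace.toSpec n k = q)
    {x : Fin (n + 1) → Γ(T, ⊤)} (h : GivenBy r (Coh.structureModule T) (fun a => ofFun (x a)))
    (G : LefPen.Form n k d) :
    (∃ m : T ⟶ (hypOver G).left, m ≫ inc G = r) ↔ MvPolynomial.eval₂ (kmap q) x G.1 = 0 := by
  refine (exists_lift_iff_eval₂ h G (fun _ : Unit => (⊤ : T.Opens)) (fun _ => ⟨(), trivial⟩) (fun _ => one ⊤)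
    (fun _ => isGen_one ⊤) (fun _ a => x a) (fun _ b => by rw [res_refl, ofFun_eq_smul])).trans ?_
  have h1 : cst (r ≫ CohB1.ProjSpace.toSpec n k) (⊤ : T.Opens) = kmap q := by
    rw [cst_eq q (𝟙 T) _ (by rw [hr, Category.id_comp])]
    ext a
    simp only [RingHom.comp_apply, ores_refl]
    rw [Scheme.Hom.id_appTop]
    rfl
  rw [h1]
  exact ⟨fun h2 => h2 (), fun h2 _ => h2⟩

theorem exists_ca (G : LefPen.Form n k d) (i : Fin (n + 1)) : ∃ c : QS (AIdeal G i) ⟶ (hypOver G).left,
    c ≫ (hypOver G).hom = qs _ ∧ GivenBy (c ≫ inc G) (Coh.structureModule _) (fun a => ofFun (av G i a)) := by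
  obtain ⟨r, hr, hr'⟩ := exists_givenBy (R := k) (qs (AIdeal G i)) (M := Coh.structureModule _)
    (fun a => ofFun (av G i a)) (by
    rw [eq_top_iff]
    refine le_trans ?_ (le_iSup _ i)
    rw [le_genLocus_iff, sec_homOf, av_self, res_refl]
    exact isGen_one ⊤)
  obtain ⟨m, hm⟩ := (exists_lift_ofFun hr hr' G).2 eval₂_av
  refine ⟨m, ?_, ?_⟩
  · change m ≫ inc G ≫ CohB1.ProjSpace.toSpec n k = _
    rw [← Category.assoc, hm, hr]
  · rw [hm]
    exact hr'

/-- The chart of the hypersurface. -/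
noncomputable def ca (G : LefPen.Form n k d) (i : Fin (n + 1)) : QS (AIdeal G i) ⟶ (hypOver G).left :=
  (exists_ca G i).choose

theorem ca_over (G : LefPen.Form n k d) (i : Fin (n + 1)) : ca G i ≫ (hypOver G).hom = qs _ :=
  (exists_ca G i).choose_spec.1

theorem ca_given (G : LefPen.Form n k d) (i : Fin (n + 1)) :
    GivenBy (ca G i ≫ inc G) (Coh.structureModule _) (fun a => ofFun (av G i a)) :=
  (exists_ca G i).choose_spec.2

/-- A map to the hypersurface is determined by global coordinates. -/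
theorem hyp_ext {G : LefPen.Form n k d} {m m' : T ⟶ (hypOver G).left} (hq : m ≫ (hypOver G).hom = m' ≫ (hypOver G).hom)
    {x : Fin (n + 1) → Γ(T, ⊤)} (h : GivenBy (m ≫ inc G) (Coh.structureModule T) (fun a => ofFun (x a)))
    (h' : GivenBy (m' ≫ inc G) (Coh.structureModule T) (fun a => ofFun (x a))) : m = m' := by
  have : Mono (inc G) := inferInstance
  rw [← cancel_mono (inc G)]
  refine h.unique h' ?_
  rw [Category.assoc, Category.assoc]
  exact hq

theorem preimage_ca (G : LefPen.Form n k d) (i : Fin (n + 1)) :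
    (ca G i ≫ inc G) ⁻¹ᵁ Dp (Fin (n + 1)) k i = ⊤ := by
  rw [preimage_Dp (ca_given G i) i, eq_top_iff, le_gl_iff, av_self, res_refl]
  exact isGen_one ⊤

/-- Coordinates of the chart of the hypersurface. -/
theorem exists_coord_open (G : LefPen.Form n k d) (i : Fin (n + 1)) (q : T ⟶ (hypOver G).left)
    (h : ∀ t, inc G (q t) ∈ Dp (Fin (n + 1)) k i) : ∃ g : T ⟶ QS (AIdeal G i), g ≫ ca G i = q := by
  obtain ⟨w, τ, hw, hτ⟩ := exists_coord (T := T) (isInvertible_O1 n k) (s := cd n k) (q ≫ inc G) i (fun t => by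
    rw [← preimage_Dp (givenBy_one n k) i, Scheme.Hom.comp_apply]
    exact h t)
  have h1 : GivenBy (q ≫ inc G) (Coh.structureModule T) (fun a => ofFun (w a)) := ⟨τ, hτ⟩
  have hG := (exists_lift_ofFun (q := q ≫ (hypOver G).hom) (by rw [Category.assoc]; rfl) h1 G).1 ⟨q, rfl⟩
  obtain ⟨g, hg, hg'⟩ := exists_toQuot (AIdeal G i) (q ≫ (hypOver G).hom) w (rel_A hw hG)
  refine ⟨g, ?_⟩
  refine hyp_ext (by rw [Category.assoc, ca_over, hg]) ?_ h1
  rw [Category.assoc]
  have h2 := givenBy_ofFun_comp (ca_given G i) g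
  have h3 : (fun a => g.appTop (av G i a)) = w := funext hg'
  exact h3 ▸ h2

theorem ca_mono (G : LefPen.Form n k d) (i : Fin (n + 1)) {g g' : T ⟶ QS (AIdeal G i)} (h : g ≫ ca G i = g' ≫ ca G i) :
    g = g' := by
  refine toQuot_ext ?_ ?_
  · rw [← ca_over, ← Category.assoc, h, Category.assoc]
  · have h1 := givenBy_ofFun_comp (ca_given G i) g
    have h2 := givenBy_ofFun_comp (ca_given G i) g'
    rw [← Category.assoc, ← h, Category.assoc] at h2
    have h3 := ofFun_unique (i := i) (by rw [av_self, map_one]) (by rw [av_self, map_one]) h1 h2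
    exact fun a => congrFun h3 a

/-- The chart of the hypersurface is an open immersion. -/
instance isOpenImmersion_ca (G : LefPen.Form n k d) (i : Fin (n + 1)) : IsOpenImmersion (ca G i) := by
  let W : (hypOver G).left.Opens := inc G ⁻¹ᵁ Dp (Fin (n + 1)) k i
  obtain ⟨κ, hκ⟩ := exists_coord_open G i W.ι (fun t => t.2)
  have hr : Set.range (ca G i) ⊆ Set.range W.ι := by
    rw [Scheme.Opens.range_ι]
    rintro _ ⟨s, rfl⟩
    have h1 := preimage_ca G i
    have h2 : s ∈ (ca G i ≫ inc G) ⁻¹ᵁ Dp (Fin (n + 1)) k i := by rw [h1]; trivial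
    exact h2
  let c' : QS (AIdeal G i) ⟶ W := IsOpenImmersion.lift W.ι (ca G i) hr
  have hc' : c' ≫ W.ι = ca G i := IsOpenImmersion.lift_fac _ _ _
  have e1 : c' ≫ κ = 𝟙 _ := by
    apply ca_mono
    rw [Category.assoc, hκ, hc', Category.id_comp]
  have e2 : κ ≫ c' = 𝟙 _ := by
    rw [← cancel_mono W.ι, Category.assoc, hc', hκ, Category.id_comp]
  have : IsIso c' := ⟨κ, e1, e2⟩
  rw [← hc']
  infer_instance

variable {G : LefPen.Form n k d} {i j : Fin (n + 1)}

/-- The map of the universal line. -/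
noncomputable def um (G : LefPen.Form n k d) (i j : Fin (n + 1)) : P1 (QS (RIdeal G i j)) ⟶ (hypOver G).left :=
  dm (uD G i j)

theorem um_over : um G i j ≫ (hypOver G).hom = pr _ ≫ qs _ := dm_over (uD G i j)

theorem um_given : GivenBy (um G i j ≫ inc G) (N _) (lsec (uv G i j) (uc G i j)) := dm_given (uD G i j)

/-- The evaluation in the charts. -/
theorem pt_um : pt _ ≫ um G i j = sA G i j ≫ ca G i := by
  have h1 := givenBy_pt_comp (um_given (G := G) (i := i) (j := j))
  rw [← Category.assoc] at h1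
  refine hyp_ext ?_ h1 ?_
  · rw [Category.assoc, um_over, pt_pr_assoc, Category.assoc, ca_over, sA_qs]
  · have h2 := givenBy_ofFun_comp (ca_given G i) (sA G i j)
    have h3 : (fun a => (sA G i j).appTop (av G i a)) = uv G i j := funext fun a => sA_av a
    rw [Category.assoc]
    exact h3 ▸ h2

theorem flat_pt_um [IsAlgClosed k] (hG : Good G) (hd : 1 ≤ d) (hdn : d + 3 ≤ n) (hij : i ≠ j) :
    Flat (pt _ ≫ um G i j) := by
  rw [pt_um]
  have : Flat (sA G i j) := by
    rw [sA, Flat.SpecMap_iff]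
    exact K166.LineFlat.flat_toR G hG hd hdn i j hij
  exact MorphismProperty.comp_mem _ _ _ this inferInstance

end K188.HChart
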