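import Groth.Agent.Fano.K188.MapP1
import Groth.Agent.Lefpen.H711.PencilMap
import Groth.Agent.Lefpen.H717.HypFn

/-!
# Factoring a map to projective space through a hypersurface

`r : X ⟶ P^n_k` given by sections `s` of `M`.
* `ev_eq`: the dehomogenization of a form, pulled back along `r`, is the value of the form at the ratios;
* `exists_lift_iff_eval₂`: `r` factors through `V_+(G)` iff locally `G(f) = 0` where `s_b = f_b e`, `e` a generator.
-/

set_option autoImplicit false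
universe u
open CategoryTheory CategoryTheory.Limits AlgebraicGeometry TopologicalSpace

namespace K188.HypFac

open K390.PnSec Groth.Agent.Fdesc.LocGen Groth.Agent.Dix.ProjProper
open Groth.Agent.Ega2.H295.PnUniq Groth.Agent.Ega2.H295.PnCoord
open Groth.Agent.Lefpen.H711.PencilMap Groth.Agent.Lefpen.H717.HypFn LefPen
open Groth.Agent.Divis.CartierBasic Groth.Agent.Divis.CartierStalk
open Groth.Agent.VarietyB Groth.Agent.VarietyB.ProjGlue Groth.Agent.VarietyB.ProjStd
open K188.LineDef K188.MapP1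

attribute [local instance] MvPolynomial.gradedAlgebra

variable {X Y T : Scheme.{u}} {k : Type u} [Field k] {n d : ℕ}

theorem evStd_X (j b : Fin (n + 1)) : evStd n k j (MvPolynomial.X b) = ProjStd.ratio (Fin (n + 1)) k j b := by
  have h1 := congr($(hom_std (Fin (n + 1)) k j) (MvPolynomial.X b))
  refine Eq.trans h1.symm ?_
  simp only [CoordData.hom, MvPolynomial.coe_eval₂Hom, MvPolynomial.eval₂_X]
  rfl

theorem ev_eq (r : X ⟶ CohB1.ProjSpace n k) (a : Fin (n + 1)) (W : X.Opens) (hW : W ≤ r ⁻¹ᵁ chart n k a)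
    (p : MvPolynomial (Fin (n + 1)) k) : ev r a W hW p =
      MvPolynomial.eval₂ (cst (r ≫ CohB1.ProjSpace.toSpec n k) W)
        (fun b => r.appLE (Dp (Fin (n + 1)) k a) W hW (ProjStd.ratio (Fin (n + 1)) k a b)) p := by
  have h1 : ev r a W hW = MvPolynomial.eval₂Hom (cst (r ≫ CohB1.ProjSpace.toSpec n k) W)
        (fun b => r.appLE (Dp (Fin (n + 1)) k a) W hW (ProjStd.ratio (Fin (n + 1)) k a b)) := by
    refine MvPolynomial.ringHom_ext (fun c => ?_) (fun b => ?_)
    · rw [ev_C, MvPolynomial.eval₂Hom_C]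
    · rw [MvPolynomial.eval₂Hom_X', ev, RingHom.comp_apply, evStd_X]
  rw [h1]
  rfl

theorem eval₂_smul {A : Type*} [CommRing A] (φ : k →+* A) (c : A) (x : Fin (n + 1) → A) (G : Form n k d) :
    MvPolynomial.eval₂ φ (fun b => c * x b) G.1 = c ^ d * MvPolynomial.eval₂ φ x G.1 := by
  have hG : G.1.IsHomogeneous d := (MvPolynomial.mem_homogeneousSubmodule _ _).1 G.2
  rw [MvPolynomial.eval₂_eq, MvPolynomial.eval₂_eq, Finset.mul_sum]
  refine Finset.sum_congr rfl fun e he => ?_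
  have h1 : ∑ i ∈ e.support, e i = d := by
    have := hG (MvPolynomial.mem_support_iff.1 he)
    rw [← this, Finsupp.weight_apply, Finsupp.sum]
    simp
  simp only [mul_pow]
  rw [Finset.prod_mul_distrib, Finset.prod_pow_eq_pow_sum, h1]
  ring

section Loc

variable {r : X ⟶ CohB1.ProjSpace n k} {M : X.Modules} {s : Fin (n + 1) → Γ(M, ⊤)} (h : GivenBy r M s)
  {W : X.Opens} {e : Γ(M, W)} (he : IsGen e) (f : Fin (n + 1) → Γ(X, W))
  (hf : ∀ b, res M (le_top : W ≤ ⊤) (s b) = f b • e)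

include h

/-- The relation between the sections over a chart. -/
theorem res_sec_eq (a : Fin (n + 1)) {W' : X.Opens} (hWa : W' ≤ r ⁻¹ᵁ chart n k a) (b : Fin (n + 1)) :
    res M (le_top : W' ≤ ⊤) (s b) = (r.appLE (Dp (Fin (n + 1)) k a) W' hWa (ProjStd.ratio (Fin (n + 1)) k a b)) •
      res M (le_top : W' ≤ ⊤) (s a) := by
  obtain ⟨τ, hτ⟩ := h
  have h0 : ∀ b, τ.hom.app W' (res _ (le_top : W' ≤ ⊤) (tsec r b)) = res M (le_top : W' ≤ ⊤) (s b) := fun b => by
    rw [← hτ]
    exact app_res τ.hom (le_top : W' ≤ ⊤) (tsec r b)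
  have h1 := congrArg (τ.hom.app W') (res_tsec r a b hWa)
  rw [← h0 a, ← h0 b]
  exact h1.trans (Scheme.Modules.Hom.app_smul τ.hom _ _)

theorem isGen_res_sec (a : Fin (n + 1)) {W' : X.Opens} (hWa : W' ≤ r ⁻¹ᵁ chart n k a) :
    IsGen (res M (le_top : W' ≤ ⊤) (s a)) := by
  obtain ⟨τ, hτ⟩ := h
  have h1 := (isGen_res_tsec r a hWa).app τ.hom
  have h0 : τ.hom.app W' (res _ (le_top : W' ≤ ⊤) (tsec r a)) = res M (le_top : W' ≤ ⊤) (s a) := by
    rw [← hτ]
    exact app_res τ.hom (le_top : W' ≤ ⊤) (tsec r a)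
  rw [← h0]
  exact h1

include he hf

theorem ores_f_eq (a : Fin (n + 1)) {W' : X.Opens} (hW' : W' ≤ W) (hWa : W' ≤ r ⁻¹ᵁ chart n k a)
    (b : Fin (n + 1)) : ores hW' (f b) = ores hW' (f a) *
      (r.appLE (Dp (Fin (n + 1)) k a) W' hWa (ProjStd.ratio (Fin (n + 1)) k a b)) := by
  refine (he.res hW').ext ?_
  have h1 := res_sec_eq h a hWa b
  have h2 : ∀ b, res M (le_top : W' ≤ ⊤) (s b) = ores hW' (f b) • res M hW' e := fun b => by
    rw [← res_smul, ← hf b, res_res]
  rw [h2, h2, smul_smul] at h1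
  rw [h1, mul_comm]

theorem isUnit_ores_f (a : Fin (n + 1)) {W' : X.Opens} (hW' : W' ≤ W) (hWa : W' ≤ r ⁻¹ᵁ chart n k a) :
    IsUnit (ores hW' (f a)) := by
  have h1 := isGen_res_sec h a hWa
  have h2 : res M (le_top : W' ≤ ⊤) (s a) = ores hW' (f a) • res M hW' e := by
    rw [← res_smul, ← hf a, res_res]
  rw [h2] at h1
  exact (he.res hW').isUnit_of_smul h1

theorem ev_mul (G : Form n k d) (a : Fin (n + 1)) {W' : X.Opens} (hW' : W' ≤ W) (hWa : W' ≤ r ⁻¹ᵁ chart n k a) :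
    ores hW' (f a) ^ d * ev r a W' hWa G.1 =
      ores hW' (MvPolynomial.eval₂ (cst (r ≫ CohB1.ProjSpace.toSpec n k) W) f G.1) := by
  rw [ev_eq, ← eval₂_smul]
  have h1 : (fun b => ores hW' (f a) *
      r.appLE (Dp (Fin (n + 1)) k a) W' hWa (ProjStd.ratio (Fin (n + 1)) k a b)) = fun b => ores hW' (f b) := by
    funext b
    exact (ores_f_eq h he f hf a hW' hWa b).symm
  rw [h1]
  have h2 := MvPolynomial.eval₂_comp_left (ores hW') (cst (r ≫ CohB1.ProjSpace.toSpec n k) W) f G.1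
  refine Eq.trans ?_ h2.symm
  have h3 : (ores hW').comp (cst (r ≫ CohB1.ProjSpace.toSpec n k) W) = cst (r ≫ CohB1.ProjSpace.toSpec n k) W' := by
    ext c
    simp only [cst, CoordData.baseHom, RingHom.comp_apply]
    exact ores_ores _ _ _
  rw [h3]
  rfl

/-- The equation of the preimage of the hypersurface. -/
theorem isEqn_eval₂ (G : Form n k d) : Groth.Agent.Sga4h.DivLocal.IsEqn ((hypIdeal G).comap r) W
    (MvPolynomial.eval₂ (cst (r ≫ CohB1.ProjSpace.toSpec n k) W) f G.1) := by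
  intro x hx
  obtain ⟨a, ha⟩ := exists_mem r x
  let W' : X.Opens := W ⊓ r ⁻¹ᵁ chart n k a
  have hW' : W' ≤ W := inf_le_left
  have hWa : W' ≤ r ⁻¹ᵁ chart n k a := inf_le_right
  have hx' : x ∈ W' := ⟨hx, ha⟩
  have h1 := ((isEqn_chart a G).comap r).mono hWa x hx'
  have h2 : Groth.Agent.Sga4h.DivLocal.res X hWa (r.app (chart n k a) (dehom G a)) = ev r a W' hWa G.1 := by
    rw [ev, RingHom.comp_apply, ← dehom_eq_evStd]
    rfl
  rw [h2] at h1
  have h3 := ev_mul h he f hf G a hW' hWa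
  have h4 := isUnit_ores_f h he f hf a hW' hWa
  have h5 : X.presheaf.germ W x hx (MvPolynomial.eval₂ (cst (r ≫ CohB1.ProjSpace.toSpec n k) W) f G.1) =
      X.presheaf.germ W' x hx' (ores hW' (f a)) ^ d * X.presheaf.germ W' x hx' (ev r a W' hWa G.1) := by
    rw [← map_pow, ← map_mul, h3]
    exact (Groth.Agent.Sga4h.DivLocal.germ_res X hW' x hx' _).symm
  rw [h5, h1]
  exact (Ideal.span_singleton_mul_left_unit ((h4.map (X.presheaf.germ W' x hx').hom).pow d) _).symm

end Loc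

/-- `r` factors through `V_+(G)` iff `G` vanishes on the local coordinates of the sections. -/
theorem exists_lift_iff_eval₂ {r : X ⟶ CohB1.ProjSpace n k} {M : X.Modules} {s : Fin (n + 1) → Γ(M, ⊤)}
    (h : GivenBy r M s) (G : Form n k d) {ι : Type*} (W : ι → X.Opens) (hW : ∀ x, ∃ i, x ∈ W i)
    (e : ∀ i, Γ(M, W i)) (he : ∀ i, IsGen (e i)) (f : ∀ i, Fin (n + 1) → Γ(X, W i))
    (hf : ∀ i b, res M (le_top : W i ≤ ⊤) (s b) = f i b • e i) :
    (∃ m : X ⟶ (hypIdeal G).subscheme, m ≫ (hypIdeal G).subschemeι = r) ↔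
      ∀ i, MvPolynomial.eval₂ (cst (r ≫ CohB1.ProjSpace.toSpec n k) (W i)) (f i) G.1 = 0 := by
  have h0 : (∃ m : X ⟶ (hypIdeal G).subscheme, m ≫ (hypIdeal G).subschemeι = r) ↔ (hypIdeal G).comap r = ⊥ := by
    rw [← le_bot_iff, ← Scheme.IdealSheafData.le_map_iff_comap_le, Scheme.IdealSheafData.map_bot]
    constructor
    · rintro ⟨m, hm⟩
      have h1 := Scheme.Hom.le_ker_comp m (hypIdeal G).subschemeι
      rwa [hm, Scheme.IdealSheafData.ker_subschemeι] at h1
    · intro h1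
      exact ⟨IsClosedImmersion.lift (hypIdeal G).subschemeι r
        (by rwa [Scheme.IdealSheafData.ker_subschemeι]), IsClosedImmersion.lift_fac _ _ _⟩
  rw [h0]
  constructor
  · intro h1 i
    refine TopCat.Presheaf.section_ext X.sheaf _ _ _ fun x hx => ?_
    have h2 := isEqn_eval₂ h (he i) (f i) (hf i) G x hx
    rw [h1, stalkIdeal_bot, eq_comm, Ideal.span_singleton_eq_bot] at h2
    exact h2.trans (map_zero (X.presheaf.germ (W i) x hx).hom).symm
  · intro h1
    refine ext_stalkIdeal fun x => ?_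
    obtain ⟨i, hi⟩ := hW x
    rw [isEqn_eval₂ h (he i) (f i) (hf i) G x hi, h1 i, map_zero, stalkIdeal_bot]
    exact Ideal.span_singleton_eq_bot.2 rfl

end K188.HypFac
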