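import Groth.Agent.Fano.K188.HypFac
import Mathlib.Algebra.MvPolynomial.Equiv

/-!
# Linear maps from the projective line: functorial description

* `givenBy_comp_lsec`: the composite of a map to the projective line with coordinates `x₀, x₁` and a linear map;
* `ofFun_unique`: uniqueness of coordinates with one of them equal to `1`;
* `lsec_unique`: node D3; `exists_lift_iff`: node D2.
-/

set_option autoImplicit false
universe u
open CategoryTheory CategoryTheory.Limits AlgebraicGeometry TopologicalSpace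

namespace K188.LinFun

open K390.PnSec Groth.Agent.Fdesc.LocGen Groth.Agent.Dix.ProjProper
open Groth.Agent.Ega2.H295.PnUniq Groth.Agent.Ega2.H295.PnCoord
open K188.LineDef K188.MapP1 K188.HypFac

attribute [local instance] MvPolynomial.gradedAlgebra

variable {X Y T : Scheme.{u}} {k : Type u} [CommRing k] {n d : ℕ}

/-- Composition of a map to the projective line with a linear map. -/
theorem givenBy_comp_lsec {ψ : Y ⟶ P1 T} {M : Y.Modules} {x : Fin (1 + 1) → Γ(M, ⊤)}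
    (hψ : GivenBy (ψ ≫ toZ 1 T) M x) {r : P1 T ⟶ CohB1.ProjSpace n k} {v c : Fin (n + 1) → Γ(T, ⊤)}
    (h : GivenBy r (N T) (lsec v c)) :
    GivenBy (ψ ≫ r) M (fun a => ((ψ ≫ pr T).appTop (v a)) • x 0 + ((ψ ≫ pr T).appTop (c a)) • x 1) := by
  obtain ⟨e, he⟩ := ((GivenBy.refl (toZ 1 T)).comp ψ).exists_iso hψ
  have h1 := (h.comp ψ).of_iso e
  have h2 : (fun a => e.hom.app ⊤ (pullTop ψ (lsec v c a))) =
      fun a => ((ψ ≫ pr T).appTop (v a)) • x 0 + ((ψ ≫ pr T).appTop (c a)) • x 1 := by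
    funext a
    have h3 : ∀ (g : Γ(P1 T, ⊤)) (s : Γ(N T, ⊤)), pullTop ψ (g • s) = (ψ.appTop g) • pullTop ψ s :=
      fun g s => pullSec_smul ψ g s
    have h4 : pullTop ψ (lsec v c a) = (ψ.appTop ((pr T).appTop (v a))) • pullTop ψ (crd 1 T 0) +
        (ψ.appTop ((pr T).appTop (c a))) • pullTop ψ (crd 1 T 1) := by
      rw [lsec, ← h3, ← h3]
      exact pullSec_add ψ _ _
    rw [h4, map_add]
    have h5 : ∀ (g : Γ(Y, ⊤)) (s : Γ((Scheme.Modules.pullback ψ).obj (N T), ⊤)),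
      e.hom.app ⊤ (g • s) = g • e.hom.app ⊤ s := fun g s => Scheme.Modules.Hom.app_smul e.hom g s
    rw [h5, h5]
    have h6 : e.hom.app ⊤ (pullTop ψ (crd 1 T 0)) = x 0 := he 0
    have h7 : e.hom.app ⊤ (pullTop ψ (crd 1 T 1)) = x 1 := he 1
    rw [h6, h7, Scheme.Hom.comp_appTop]
    rfl
  rw [h2] at h1
  exact h1

/-- The structure sheaf has coordinates determined by the map once one of them is `1`. -/
theorem ofFun_unique {r : T ⟶ CohB1.ProjSpace n k} {v v' : Fin (n + 1) → Γ(T, ⊤)} {i : Fin (n + 1)}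
    (hv : v i = 1) (hv' : v' i = 1) (h : GivenBy r (Coh.structureModule T) (fun a => ofFun (v a)))
    (h' : GivenBy r (Coh.structureModule T) (fun a => ofFun (v' a))) : v = v' := by
  obtain ⟨e, he⟩ := h.exists_iso h'
  have h1 : ∀ a : Γ(T, ⊤), e.hom.app ⊤ (ofFun a) = a • e.hom.app ⊤ (one ⊤) := fun a => by
    rw [ofFun_eq_smul]
    exact Scheme.Modules.Hom.app_smul e.hom a (one ⊤)
  have h2 : e.hom.app ⊤ (one ⊤) = one ⊤ := by
    have h3 := he i
    simp only [hv, hv'] at h3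
    exact h3
  funext a
  have h4 := he a
  simp only at h4
  rw [h1, h2, ← ofFun_eq_smul] at h4
  exact ofFun.injective h4

/-- The point `[x₀ : x₁]`. -/
theorem exists_pt (q : Y ⟶ T) (x : Fin (1 + 1) → Γ(Y, ⊤)) (i : Fin (1 + 1)) (hx : x i = 1) :
    ∃ ψ : Y ⟶ P1 T, ψ ≫ pr T = q ∧ GivenBy (ψ ≫ toZ 1 T) (Coh.structureModule Y) (fun a => ofFun (x a)) := by
  obtain ⟨r, hr⟩ := exists_givenBy' (M := Coh.structureModule Y) (fun a => ofFun (x a)) (by
    rw [eq_top_iff]
    refine le_trans ?_ (le_iSup _ i)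
    rw [le_genLocus_iff, sec_homOf, hx, res_refl]
    exact isGen_one ⊤)
  refine ⟨liftP r q, liftP_toBase _ _, ?_⟩
  rw [liftP_toZ]
  exact hr

theorem ofFun_smul_add (a b x y : Γ(Y, ⊤)) : a • (ofFun x : Γ(Coh.structureModule Y, ⊤)) + b • ofFun y =
    ofFun (a * x + b * y) := by
  rw [map_add, ofFun_eq_smul, ofFun_eq_smul, ofFun_eq_smul, ofFun_eq_smul, smul_smul, smul_smul]

/-- The coordinates of the composite of a point and a linear map. -/
theorem givenBy_comp_lsec' {ψ : Y ⟶ P1 T} {x : Fin (1 + 1) → Γ(Y, ⊤)}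
    (hψ : GivenBy (ψ ≫ toZ 1 T) (Coh.structureModule Y) (fun a => ofFun (x a)))
    {r : P1 T ⟶ CohB1.ProjSpace n k} {v c : Fin (n + 1) → Γ(T, ⊤)}
    (h : GivenBy r (N T) (lsec v c)) :
    GivenBy (ψ ≫ r) (Coh.structureModule Y)
      (fun a => ofFun ((ψ ≫ pr T).appTop (v a) * x 0 + (ψ ≫ pr T).appTop (c a) * x 1)) := by
  have h1 := givenBy_comp_lsec hψ h
  have h2 : (fun a => ((ψ ≫ pr T).appTop (v a)) • (ofFun (x 0) : Γ(Coh.structureModule Y, ⊤)) +
      ((ψ ≫ pr T).appTop (c a)) • ofFun (x 1)) =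
      fun a => ofFun ((ψ ≫ pr T).appTop (v a) * x 0 + (ψ ≫ pr T).appTop (c a) * x 1) := by
    funext a
    exact ofFun_smul_add _ _ _ _
  exact h2 ▸ h1

/-- A generator of a module. -/
theorem exists_iso_of_isGen {M : X.Modules} {m : Γ(M, ⊤)} (hm : IsGen m) :
    ∃ e : M ≅ Coh.structureModule X, e.hom.app ⊤ m = one ⊤ := by
  have h1 : IsIso (homOf m) := by rw [isIso_iff_isGen, sec_homOf, res_refl]; exact hm
  refine ⟨(asIso (homOf m)).symm, ?_⟩
  have h2 : (homOf m).app ⊤ (one ⊤) = m := by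
    have h3 := homOf_app m ⊤ (1 : Γ(X, ⊤))
    rw [one_smul, res_refl] at h3
    exact h3
  have h4 : (inv (homOf m)).app ⊤ ((homOf m).app ⊤ (one ⊤)) = one ⊤ :=
    congr(($(IsIso.hom_inv_id (homOf m))).app ⊤ (one ⊤))
  rw [h2] at h4
  exact h4

/-- Pullback of a map to projective space with global coordinates. -/
theorem givenBy_ofFun_comp {R : Type u} [CommRing R] {r : X ⟶ CohB1.ProjSpace n R} {x : Fin (n + 1) → Γ(X, ⊤)}
    (h : GivenBy r (Coh.structureModule X) (fun a => ofFun (x a))) (f : Y ⟶ X) :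
    GivenBy (f ≫ r) (Coh.structureModule Y) (fun a => ofFun (f.appTop (x a))) := by
  obtain ⟨e, he⟩ := exists_iso_of_isGen (m := pullTop f (one ⊤)) ((isGen_one ⊤).pullSec f)
  have h1 := (h.comp f).of_iso e
  have h2 : (fun a => e.hom.app ⊤ (pullTop f (ofFun (x a)))) = fun a => ofFun (f.appTop (x a)) := by
    funext a
    have h3 : pullTop f (ofFun (x a)) = (f.appTop (x a)) • pullTop f (one ⊤) := by
      rw [ofFun_eq_smul]
      exact pullSec_smul f (x a) (one ⊤)
    have h5 : ∀ (g : Γ(Y, ⊤)) (s : Γ((Scheme.Modules.pullback f).obj (Coh.structureModule X), ⊤)),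
      e.hom.app ⊤ (g • s) = g • e.hom.app ⊤ s := fun g s => Scheme.Modules.Hom.app_smul e.hom g s
    rw [h3, h5, he, ← ofFun_eq_smul]
  exact h2 ▸ h1

/-- The coordinates of the marked point. -/
theorem givenBy_pt : GivenBy (pt T ≫ toZ 1 T) (Coh.structureModule T)
    (fun a => ofFun ((![1, 0] : Fin (1 + 1) → Γ(T, ⊤)) a)) := by
  rw [pt_toZ]
  have h0 : GivenBy pt0.{u} (Coh.structureModule _)
      (fun a => ofFun ((![1, 0] : Fin (1 + 1) → Γ(Spec (CommRingCat.of (ULift.{u} ℤ)), ⊤)) a)) := by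
    have h1 : (![one ⊤, 0] : Fin (1 + 1) → Γ(Coh.structureModule (Spec (CommRingCat.of (ULift.{u} ℤ))), ⊤)) =
        (fun a => ofFun ((![1, 0] : Fin (1 + 1) → Γ(Spec (CommRingCat.of (ULift.{u} ℤ)), ⊤)) a)) := by
      funext a
      fin_cases a
      · rfl
      · exact (map_zero ofFun).symm
    exact h1 ▸ givenBy_pt0
  have h1 := givenBy_ofFun_comp h0 (specULiftZIsTerminal.from T)
  have h2 : (fun a => (ofFun ((specULiftZIsTerminal.from T).appTop
      ((![1, 0] : Fin (1 + 1) → Γ(Spec (CommRingCat.of (ULift.{u} ℤ)), ⊤)) a)) : Γ(Coh.structureModule T, ⊤))) =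
      (fun a => ofFun ((![1, 0] : Fin (1 + 1) → Γ(T, ⊤)) a)) := by
    funext a
    congr 1
    fin_cases a
    · exact map_one _
    · exact map_zero _
  exact h2 ▸ h1

/-- The coordinates of the image of the marked point. -/
theorem givenBy_pt_comp {r : P1 T ⟶ CohB1.ProjSpace n k} {v c : Fin (n + 1) → Γ(T, ⊤)}
    (h : GivenBy r (N T) (lsec v c)) :
    GivenBy (pt T ≫ r) (Coh.structureModule T) (fun a => ofFun (v a)) := by
  have h1 := givenBy_comp_lsec' givenBy_pt h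
  have h2 : (fun a => (ofFun ((pt T ≫ pr T).appTop (v a) * (![1, 0] : Fin (1 + 1) → Γ(T, ⊤)) 0 +
      (pt T ≫ pr T).appTop (c a) * (![1, 0] : Fin (1 + 1) → Γ(T, ⊤)) 1) : Γ(Coh.structureModule T, ⊤))) =
      fun a => ofFun (v a) := by
    funext a
    rw [pt_pr]
    simp
  exact h2 ▸ h1

/-- Node D3. -/
theorem lsec_unique {r : P1 T ⟶ CohB1.ProjSpace n k} {v c v' c' : Fin (n + 1) → Γ(T, ⊤)}
    {i : Fin (n + 1)} (hv : v i = 1) (hc : c i = 0) (hv' : v' i = 1) (hc' : c' i = 0)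
    (h : GivenBy r (N T) (lsec v c)) (h' : GivenBy r (N T) (lsec v' c')) : v = v' ∧ c = c' := by
  have h1 : v = v' := ofFun_unique hv hv' (givenBy_pt_comp h) (givenBy_pt_comp h')
  refine ⟨h1, ?_⟩
  obtain ⟨ψ, hψ, hψ'⟩ := exists_pt (𝟙 T) (fun _ => (1 : Γ(T, ⊤))) 0 rfl
  have h2 := givenBy_comp_lsec' hψ' h
  have h3 := givenBy_comp_lsec' hψ' h'
  rw [hψ] at h2 h3
  have h4 := ofFun_unique (i := i) (by simp [hv, hc]) (by simp [hv', hc']) h2 h3
  funext a
  have h5 := congrFun h4 a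
  simp only [mul_one, h1] at h5
  simpa using h5

/-- Base change of linear maps. -/
theorem lsec_pmap {T' : Scheme.{u}} (g : T' ⟶ T) {r : P1 T ⟶ CohB1.ProjSpace n k} {v c : Fin (n + 1) → Γ(T, ⊤)}
    (h : GivenBy r (N T) (lsec v c)) :
    GivenBy (pmap g ≫ r) (N T') (lsec (fun a => g.appTop (v a)) (fun a => g.appTop (c a))) := by
  have h0 : GivenBy (pmap g ≫ toZ 1 T) (N T') (crd 1 T') := by
    rw [pmap_toZ]
    exact GivenBy.refl _
  have h1 := givenBy_comp_lsec h0 h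
  have h2 : (fun a => ((pmap g ≫ pr T).appTop (v a)) • crd 1 T' 0 + ((pmap g ≫ pr T).appTop (c a)) • crd 1 T' 1) =
      lsec (fun a => g.appTop (v a)) (fun a => g.appTop (c a)) := by
    funext a
    rw [pmap_pr, Scheme.Hom.comp_appTop]
    rfl
  exact h2 ▸ h1

end K188.LinFun
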