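import Groth.Agent.Fano.K188.FamIso
import Groth.Agent.CurvesC.DegIso

/-!
# Families of lines on a hypersurface and coordinates

* `Dat G i j T`: normalized coordinates of a line over `T`; `Dat.obj`;
* `IsCoord A v c e`: coordinates of an object;
* `InChart i j A`: the chart condition; `exists_dat`: coordinates in a chart;
* `IsCoord.unique`: rigidity; `exists_hom`, `hom_unique`: arrows to `Dat.obj`.
-/

set_option autoImplicit false
universe u
open CategoryTheory CategoryTheory.Limits AlgebraicGeometry TopologicalSpace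

namespace K188.Line

open K390.PnSec Groth.Agent.Fdesc.LocGen Groth.Agent.Dix.ProjProper
open Groth.Agent.Ega2.H295.PnUniq Groth.Agent.Ega2.H295.PnCoord
open K188.LineDef K188.MapP1 K188.HypFac K188.LinFun K188.OnHypL K188.LinP1 K188.FamIso W4swstmapratcurves

attribute [local instance] MvPolynomial.gradedAlgebra

variable {X Y T : Scheme.{u}} {k : Type u} [Field k] {n d : ℕ}

/-- The inclusion of the hypersurface. -/
noncomputable abbrev inc (G : LefPen.Form n k d) : (hypOver G).left ⟶ CohB1.ProjSpace n k :=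
  (LefPen.hypIdeal G).subschemeι

/-- Node A: the family of lines is stable. -/
def StdStable (G : LefPen.Form n k d) : Prop :=
  ∀ (T : Scheme.{u}) (m : P1 T ⟶ (hypOver G).left) (v c : Fin (n + 1) → Γ(T, ⊤)) (i j : Fin (n + 1)),
    v i = 1 → c i = 0 → c j = 1 → GivenBy (m ≫ inc G) (N T) (lsec v c) →
    StMap.IsStableMapFam (pr T) (fun _ : Fin 1 => pt T) (fun _ => pt_pr) m 0 ∧ StMap.IsFibDeg (pr T) m (hypO1 G) 1

/-! ### coordinates of an object -/

/-- Coordinates of a family. -/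
structure IsCoord {G : LefPen.Form n k d} (A : StMap.MapFamObj (Spec (CommRingCat.of k)) 1 (hypOver G))
    (v c : Fin (n + 1) → Γ(A.base.left, ⊤)) (e : P1 A.base.left ≅ A.C) : Prop where
  f : e.hom ≫ A.f = pr _
  sect : pt _ ≫ e.hom = A.sect 0
  given : GivenBy (e.hom ≫ A.map ≫ inc G) (N _) (lsec v c)

section Rigid

/-- Rigidity of the projective line with normalized linear forms. -/
theorem eq_id_of_lsec {R : Type u} [CommRing R] {ψ : P1 T ⟶ P1 T} (hψ : ψ ≫ pr T = pr T) (hpt : pt T ≫ ψ = pt T)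
    {r : P1 T ⟶ CohB1.ProjSpace n R} {v c v' c' : Fin (n + 1) → Γ(T, ⊤)} {i j : Fin (n + 1)}
    (hv : v i = 1) (hc : c i = 0) (hcj : c j = 1) (hv' : v' i = 1) (hc' : c' i = 0) (hcj' : c' j = 1)
    (h : GivenBy r (N T) (lsec v c)) (h' : GivenBy (ψ ≫ r) (N T) (lsec v' c')) : ψ = 𝟙 _ := by
  obtain ⟨θ, hθ⟩ := (h.comp ψ).exists_iso h'
  have e1 : ∀ a, ψ.appTop ((pr T).appTop a) = (pr T).appTop a := fun a => by
    have h1 : (pr T).appTop ≫ ψ.appTop = (pr T).appTop := by rw [← Scheme.Hom.comp_appTop, hψ]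
    exact congr($h1 a)
  have hvv : v = v' := by
    have h1 := givenBy_pt_comp h'
    rw [← Category.assoc, hpt] at h1
    exact ofFun_unique hv hv' (givenBy_pt_comp h) h1
  have h0 : θ.hom.app ⊤ (pullTop ψ (crd 1 T 0)) = crd 1 T 0 := by
    have h1 := hθ i
    have h2 : lsec v c i = crd 1 T 0 := lsec_i hv hc
    have h3 : lsec v' c' i = crd 1 T 0 := lsec_i hv' hc'
    exact (congrArg (fun z => θ.hom.app ⊤ (pullTop ψ z)) h2.symm).trans (h1.trans h3)
  have h1 : θ.hom.app ⊤ (pullTop ψ (crd 1 T 1)) = crd 1 T 1 := by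
    have h1 := hθ j
    have h2 : lsec v c j = ((pr T).appTop (v j)) • crd 1 T 0 + crd 1 T 1 := by
      rw [lsec, hcj, map_one, one_smul]
    have h3 : lsec v' c' j = ((pr T).appTop (v j)) • crd 1 T 0 + crd 1 T 1 := by
      rw [lsec, hcj', map_one, one_smul, hvv]
    have h4 : θ.hom.app ⊤ (pullTop ψ (lsec v c j)) =
        ((pr T).appTop (v j)) • θ.hom.app ⊤ (pullTop ψ (crd 1 T 0)) + θ.hom.app ⊤ (pullTop ψ (crd 1 T 1)) := by
      rw [h2, pullTop_smul_add, app_smul_add, e1]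
    have h5 := h4.symm.trans (h1.trans h3)
    rw [h0] at h5
    exact add_left_cancel h5
  refine hom_ext_over ?_ ?_
  · have h2 := ((GivenBy.refl (toZ 1 T)).comp ψ).of_iso θ
    have h3 : (fun a => θ.hom.app ⊤ (pullTop ψ (crd 1 T a))) = crd 1 T := by
      funext a
      fin_cases a
      · exact h0
      · exact h1
    have h4 : GivenBy (ψ ≫ toZ 1 T) (N T) (crd 1 T) := h3 ▸ h2
    rw [Category.id_comp]
    exact h4.unique' (GivenBy.refl _)
  · rw [hψ, Category.id_comp]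

end Rigid

section Coord

variable {G : LefPen.Form n k d} {A B : StMap.MapFamObj (Spec (CommRingCat.of k)) 1 (hypOver G)} {i j : Fin (n + 1)}

theorem IsCoord.unique {v c v' c' : Fin (n + 1) → Γ(A.base.left, ⊤)} {e e' : P1 A.base.left ≅ A.C}
    (h : IsCoord A v c e) (h' : IsCoord A v' c' e') (hv : v i = 1) (hc : c i = 0) (hcj : c j = 1) (hv' : v' i = 1)
    (hc' : c' i = 0) (hcj' : c' j = 1) : e = e' ∧ v = v' ∧ c = c' := by
  have h1 : e'.hom ≫ e.inv = 𝟙 _ := by
    refine eq_id_of_lsec (r := e.hom ≫ A.map ≫ inc G) ?_ ?_ hv hc hcj hv' hc' hcj' h.given ?_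
    · rw [← h.f, Category.assoc, Iso.inv_hom_id_assoc, h'.f, h.f]
    · rw [← Category.assoc, h'.sect, ← h.sect, Category.assoc, Iso.hom_inv_id, Category.comp_id]
    · rw [Category.assoc, Iso.inv_hom_id_assoc]
      exact h'.given
  have h2 : e = e' := by
    ext1
    rw [← cancel_mono e.inv, Iso.hom_inv_id, h1]
  subst h2
  exact ⟨rfl, lsec_unique hv hc hv' hc' h.given h'.given⟩

section Hom

variable {T : Over (Spec (CommRingCat.of k))} {m : P1 T.left ⟶ (hypOver G).left}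
    {hm : m ≫ (hypOver G).hom = pr T.left ≫ T.hom} (b : A ⟶ std T m hm)

/-- The map of bases. -/
def bs : A.base ⟶ T := b.hom.base

/-- The map of total spaces. -/
def tp : A.C ⟶ P1 T.left := b.hom.top

theorem cart : IsPullback (tp b) A.f (pr T.left) (bs b).left := b.hom.cart

theorem w_sect : A.sect 0 ≫ tp b = (bs b).left ≫ pt T.left := b.hom.w_sect 0

theorem w_map : tp b ≫ m = A.map := b.w_map

variable {v c : Fin (n + 1) → Γ(T.left, ⊤)}

/-- Coordinates from an arrow to a family with projective line. -/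
theorem exists_coord_of_hom (h : GivenBy (m ≫ inc G) (N _) (lsec v c)) :
    ∃ e, IsCoord A (fun a => (bs b).left.appTop (v a)) (fun a => (bs b).left.appTop (c a)) e ∧
      e.hom ≫ tp b = pmap (bs b).left := by
  have hP := isPullback_pmap (bs b).left
  have hQ := cart b
  let e : P1 A.base.left ≅ A.C := hP.isoIsPullback _ _ hQ
  have e1 : e.hom ≫ tp b = pmap (bs b).left := IsPullback.isoIsPullback_hom_fst _ _ _ _
  have e2 : e.hom ≫ A.f = pr _ := IsPullback.isoIsPullback_hom_snd _ _ _ _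
  refine ⟨e, ⟨e2, ?_, ?_⟩, e1⟩
  · refine hQ.hom_ext ?_ ?_
    · rw [Category.assoc, e1, pt_pmap, w_sect]
    · rw [Category.assoc, e2, pt_pr, A.sect_f]
  · have h1 : e.hom ≫ A.map ≫ inc G = pmap (bs b).left ≫ m ≫ inc G := by
      rw [← w_map b, Category.assoc, reassoc_of% e1]
    rw [h1]
    exact lsec_pmap _ h

/-- An arrow from coordinates. -/
theorem exists_hom (hm : m ≫ (hypOver G).hom = pr T.left ≫ T.hom)
    (h : GivenBy (m ≫ inc G) (N _) (lsec v c)) (g : A.base ⟶ T) {e : P1 A.base.left ≅ A.C}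
    (hA : IsCoord A (fun a => g.left.appTop (v a)) (fun a => g.left.appTop (c a)) e) :
    ∃ b : A ⟶ std T m hm, b.hom.base = g := by
  refine ⟨⟨⟨g, e.inv ≫ pmap g.left, ?_, fun l => ?_⟩, ?_⟩, rfl⟩
  · have h1 : IsPullback e.inv A.f (pr _) (𝟙 _) := by
      refine IsPullback.of_horiz_isIso ⟨?_⟩
      rw [Category.comp_id, ← hA.f, Iso.inv_hom_id_assoc]
    have h2 := h1.paste_horiz (isPullback_pmap g.left)
    rwa [Category.id_comp] at h2
  · obtain rfl : l = 0 := Subsingleton.elim _ _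
    change A.sect 0 ≫ e.inv ≫ pmap g.left = g.left ≫ pt T.left
    rw [← hA.sect, Category.assoc, Iso.hom_inv_id_assoc, pt_pmap]
  · change (e.inv ≫ pmap g.left) ≫ m = A.map
    have h1 : pmap g.left ≫ m = e.hom ≫ A.map := by
      have : Mono (inc G) := inferInstance
      rw [← cancel_mono (inc G), Category.assoc, Category.assoc]
      refine (lsec_pmap g.left h).unique hA.given ?_
      have h2 := A.map_over
      change A.map ≫ inc G ≫ CohB1.ProjSpace.toSpec n k = A.f ≫ A.base.hom at h2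
      have h3 : m ≫ inc G ≫ CohB1.ProjSpace.toSpec n k = pr T.left ≫ T.hom := hm
      rw [Category.assoc, Category.assoc, h3, Category.assoc, Category.assoc, h2, pmap_pr_assoc, reassoc_of% hA.f,
        Over.w g]
    rw [Category.assoc, h1, Iso.inv_hom_id_assoc]

/-- Two arrows with the same base map. -/
theorem hom_unique (h : GivenBy (m ≫ inc G) (N _) (lsec v c)) (hv : v i = 1) (hc : c i = 0) (hcj : c j = 1)
    (b b' : A ⟶ std T m hm) (hg : (fun a => (bs b).left.appTop (v a)) = (fun a => (bs b').left.appTop (v a)) →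
      (fun a => (bs b).left.appTop (c a)) = (fun a => (bs b').left.appTop (c a)) → bs b = bs b') :
    b = b' := by
  obtain ⟨e, he, he'⟩ := exists_coord_of_hom b h
  obtain ⟨e₁, he₁, he₁'⟩ := exists_coord_of_hom b' h
  obtain ⟨rfl, h2, h3⟩ := he.unique (i := i) (j := j) he₁ (by rw [hv, map_one]) (by rw [hc, map_zero]) (by rw [hcj, map_one])
    (by rw [hv, map_one]) (by rw [hc, map_zero]) (by rw [hcj, map_one])
  have h4 := hg h2 h3
  apply StMap.MapFamObj.hom_ext
  apply CurvSt.PtFamObj.hom_ext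
  · exact h4
  · change tp b = tp b'
    rw [← cancel_epi e.hom, he', he₁', h4]

end Hom

end Coord

section Stable

variable {C T Y Y' : Scheme.{u}} {f : C ⟶ T} {σ : Fin 1 → (T ⟶ C)} {hσ : ∀ i, σ i ≫ f = 𝟙 T} {μ : C ⟶ Y}

theorem isStableMap_comp {Ω : Type u} [Field Ω] [IsAlgClosed Ω] {q : C ⟶ Spec (CommRingCat.of Ω)} {g : ℕ}
    {x : Fin 1 → C} (h : StMap.IsStableMap Ω C q g x μ) (ι : Y ⟶ Y') (hι : Function.Injective ι) :
    StMap.IsStableMap Ω C q g x (μ ≫ ι) := by
  obtain ⟨h1, h2, h3⟩ := h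
  have key : ∀ E : Set C, ((μ ≫ ι).base '' E).Subsingleton → (μ.base '' E).Subsingleton := by
    rintro E hE _ ⟨a, ha, rfl⟩ _ ⟨b, hb, rfl⟩
    have h4 := hE ⟨a, ha, rfl⟩ ⟨b, hb, rfl⟩
    exact hι h4
  refine ⟨h1, fun E hE hE' => h2 E hE (key E hE'), fun h4 => h3 ?_⟩
  rw [← Set.image_univ] at h4 ⊢
  exact key _ h4

theorem isStableMapFam_comp {g : ℕ} (h : StMap.IsStableMapFam f σ hσ μ g) (ι : Y ⟶ Y') (hι : Function.Injective ι) :
    StMap.IsStableMapFam f σ hσ (μ ≫ ι) g := by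
  refine ⟨h.1, h.2.1, h.2.2.1, fun Ω _ _ t Xt i q hP => ?_⟩
  rw [← Category.assoc]
  exact isStableMap_comp (h.2.2.2 Ω t Xt i q hP) ι hι

theorem isFibDeg_comp (ι : Y ⟶ Y') {L : Y'.Modules} {d : ℤ}
    (h : StMap.IsFibDeg f μ ((Scheme.Modules.pullback ι).obj L) d) : StMap.IsFibDeg f (μ ≫ ι) L d := by
  intro Ω _ _ t Xt i q hP
  have h1 := h Ω t Xt i q hP
  let τ : (Scheme.Modules.pullback (i ≫ μ)).obj ((Scheme.Modules.pullback ι).obj L) ≅
      (Scheme.Modules.pullback (i ≫ μ ≫ ι)).obj L :=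
    (Scheme.Modules.pullbackComp (i ≫ μ) ι).app L ≪≫
      (Scheme.Modules.pullbackCongr (Category.assoc i μ ι)).app L
  letI : Xt.Over (Spec (CommRingCat.of Ω)) := ⟨q⟩
  exact (Groth.Agent.CurvesC.DegIso.deg_congr Ω τ 1).symm.trans h1

end Stable

section Dat

variable (G : LefPen.Form n k d) (i j : Fin (n + 1))

/-- Normalized coordinates of a line on the hypersurface over `T`. -/
structure Dat (T : Over (Spec (CommRingCat.of k))) where
  /-- the point -/
  v : Fin (n + 1) → Γ(T.left, ⊤)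
  /-- the direction -/
  c : Fin (n + 1) → Γ(T.left, ⊤)
  hv : v i = 1
  hc : c i = 0
  hcj : c j = 1
  hG : OnHyp T.hom G v c

variable {G i j}

theorem Dat.exists_m {T : Over (Spec (CommRingCat.of k))} (D : Dat G i j T) :
    ∃ m : P1 T.left ⟶ (hypOver G).left, m ≫ (hypOver G).hom = pr T.left ≫ T.hom ∧
      GivenBy (m ≫ inc G) (N T.left) (lsec D.v D.c) := by
  obtain ⟨r, hr, hr'⟩ := exists_map T.hom D.v D.c i j D.hv D.hc D.hcj
  obtain ⟨m, hm⟩ := exists_lift hr hr' G D.hG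
  refine ⟨m, ?_, ?_⟩
  · change m ≫ inc G ≫ CohB1.ProjSpace.toSpec n k = _
    rw [← Category.assoc]
    exact (congrArg (· ≫ CohB1.ProjSpace.toSpec n k) hm).trans hr
  · exact (show m ≫ inc G = r from hm) ▸ hr'

/-- The chart condition. -/
def InChart (i j : Fin (n + 1)) (A : StMap.MapFamObj (Spec (CommRingCat.of k)) 1 (hypOver G)) : Prop :=
  (∀ t : A.base.left, inc G (A.map (A.sect 0 t)) ∈ Dp (Fin (n + 1)) k i) ∧
    ∀ c : A.C, inc G (A.map c) ∈ Dp (Fin (n + 1)) k i ∨ inc G (A.map c) ∈ Dp (Fin (n + 1)) k j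

section Locus

variable {z A : StMap.MapFamObj (Spec (CommRingCat.of k)) 1 (hypOver G)} (b : z ⟶ A)

theorem map_sect_eq (s : z.base.left) : A.map (A.sect 0 (b.hom.base.left s)) = z.map (z.sect 0 s) := by
  have h1 : z.sect 0 ≫ b.hom.top = b.hom.base.left ≫ A.sect 0 := b.hom.w_sect 0
  have h2 : b.hom.top (z.sect 0 s) = A.sect 0 (b.hom.base.left s) := by
    rw [← Scheme.Hom.comp_apply, ← Scheme.Hom.comp_apply, h1]
  rw [← h2, ← b.w_map]
  rfl

theorem map_top_eq (c : z.C) : A.map (b.hom.top c) = z.map c := by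
  rw [← b.w_map]
  rfl

theorem exists_preimage {X Y Z P : Scheme.{u}} {f : X ⟶ Z} {g : Y ⟶ Z} {fst : P ⟶ X} {snd : P ⟶ Y}
    (h : IsPullback fst snd f g) (x : X) (y : Y) (e : f x = g y) : ∃ p : P, fst p = x ∧ snd p = y := by
  obtain ⟨p, hp, hp'⟩ := Scheme.Pullback.exists_preimage_pullback x y e
  refine ⟨h.isoPullback.inv p, ?_, ?_⟩
  · rw [← Scheme.Hom.comp_apply, h.isoPullback_inv_fst, hp]
  · rw [← Scheme.Hom.comp_apply, h.isoPullback_inv_snd, hp']

/-- The chart locus is open. -/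
theorem exists_locus (i j : Fin (n + 1)) (A : StMap.MapFamObj (Spec (CommRingCat.of k)) 1 (hypOver G)) (hA : IsProper A.f) :
    ∃ W : A.base.left.Opens, ∀ {z : StMap.MapFamObj (Spec (CommRingCat.of k)) 1 (hypOver G)} (b : z ⟶ A),
      InChart i j z ↔ ∀ s : z.base.left, b.hom.base.left s ∈ W := by
  let W₁ : A.base.left.Opens := (A.sect 0 ≫ A.map ≫ inc G) ⁻¹ᵁ Dp (Fin (n + 1)) k i
  let V : A.C.Opens := (A.map ≫ inc G) ⁻¹ᵁ (Dp (Fin (n + 1)) k i ⊔ Dp (Fin (n + 1)) k j)
  have hcl : IsClosed (A.f '' (V : Set A.C)ᶜ) := A.f.isClosedMap _ V.isOpen.isClosed_compl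
  let W₂ : A.base.left.Opens := ⟨(A.f '' (V : Set A.C)ᶜ)ᶜ, hcl.isOpen_compl⟩
  have hW₁ : ∀ s, s ∈ W₁ ↔ inc G (A.map (A.sect 0 s)) ∈ Dp (Fin (n + 1)) k i := fun s => Iff.rfl
  have hW₂ : ∀ s, s ∈ W₂ ↔ ∀ c, A.f c = s →
      (inc G (A.map c) ∈ Dp (Fin (n + 1)) k i ∨ inc G (A.map c) ∈ Dp (Fin (n + 1)) k j) := fun s => by
    constructor
    · intro h c hc
      by_contra h1
      exact h ⟨c, fun h2 => h1 h2, hc⟩
    · rintro h ⟨c, hc, hc'⟩
      exact hc (h c hc')
  refine ⟨W₁ ⊓ W₂, fun {z} b => ⟨fun h s => ⟨(hW₁ _).2 ?_, (hW₂ _).2 fun c hc => ?_⟩, fun h => ⟨fun t => ?_, fun c => ?_⟩⟩⟩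
  · rw [map_sect_eq]
    exact h.1 s
  · obtain ⟨c', rfl, -⟩ := exists_preimage b.hom.cart c s hc
    rw [map_top_eq]
    exact h.2 c'
  · have h1 := (hW₁ _).1 (h t).1
    rwa [map_sect_eq] at h1
  · have h1 : A.f (b.hom.top c) = b.hom.base.left (z.f c) := by
      rw [← Scheme.Hom.comp_apply, b.hom.cart.w, Scheme.Hom.comp_apply]
    have h2 := (hW₂ _).1 (h (z.f c)).2 _ h1
    rwa [map_top_eq] at h2

include b in
theorem InChart.of_hom (h : InChart i j A) : InChart i j z := by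
  refine ⟨fun t => ?_, fun c => ?_⟩
  · rw [← map_sect_eq b]
    exact h.1 _
  · rw [← map_top_eq b]
    exact h.2 _

theorem Dat.inChart {T : Over (Spec (CommRingCat.of k))} (D : Dat G i j T) {m : P1 T.left ⟶ (hypOver G).left}
    (hm : m ≫ (hypOver G).hom = pr T.left ≫ T.hom) (h : GivenBy (m ≫ inc G) (N T.left) (lsec D.v D.c)) :
    InChart i j (std T m hm) := by
  refine ⟨fun t => ?_, fun c => ?_⟩
  · have h1 := preimage_Dp (givenBy_pt_comp h) i
    have h2 : t ∈ (pt T.left ≫ m ≫ inc G) ⁻¹ᵁ Dp (Fin (n + 1)) k i := by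
      rw [h1, D.hv]
      have h3 : (⊤ : T.left.Opens) ≤ gl (ofFun (1 : Γ(T.left, ⊤))) := by
        rw [le_gl_iff, res_refl]
        exact isGen_one ⊤
      exact h3 trivial
    exact h2
  · have h1 := fun a => preimage_Dp h a
    have h2 : c ∈ gl (lsec D.v D.c i) ∨ c ∈ gl (lsec D.v D.c j) := gl_of_det (by
      rw [D.hv, D.hc, D.hcj]
      simp) c
    rw [← h1, ← h1] at h2
    exact h2

end Locus

/-- Coordinates of a stable family in a chart. -/
theorem exists_dat (hB : GeoFib k n) (A : StMap.MapFamObj (Spec (CommRingCat.of k)) 1 (hypOver G))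
    (hst : StMap.IsStableMapFam A.f A.sect A.sect_f A.map 0) (hdeg : StMap.IsFibDeg A.f A.map (hypO1 G) 1)
    (h : InChart i j A) : ∃ (D : Dat G i j A.base) (e : P1 A.base.left ≅ A.C), IsCoord A D.v D.c e := by
  have hσ : A.sect = fun _ => A.sect 0 := funext fun l => by rw [Subsingleton.elim l 0]
  have hinj : Function.Injective (inc G) := (inc G).isClosedEmbedding.injective
  have hst' : StMap.IsStableMapFam A.f (fun _ : Fin 1 => A.sect 0) (fun _ => A.sect_f 0) (A.map ≫ inc G) 0 := by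
    refine isStableMapFam_comp ?_ (inc G) hinj
    convert hst
  have hmap : (A.map ≫ inc G) ≫ CohB1.ProjSpace.toSpec n k = A.f ≫ A.base.hom := by
    rw [Category.assoc]
    exact A.map_over
  obtain ⟨e, v, c, h1, h2, hv, hc, hcj, hvc⟩ := exists_iso_std hB A.base.hom A.f (A.sect 0) (A.sect_f 0) (A.map ≫ inc G)
    hmap hst' (isFibDeg_comp (inc G) hdeg) i j (fun t => by
      rw [Scheme.Hom.comp_apply]
      exact h.1 t) (fun c => by
      rw [Scheme.Hom.comp_apply]
      exact h.2 c)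
  have hG : OnHyp A.base.hom G v c := by
    refine (exists_lift_iff (r := e.hom ≫ A.map ≫ inc G) ?_ hvc G).1 ⟨e.hom ≫ A.map, Category.assoc _ _ _⟩
    rw [Category.assoc, hmap, reassoc_of% h1]
  exact ⟨⟨v, c, hv, hc, hcj, hG⟩, e, ⟨h1, h2, hvc⟩⟩

end Dat

end K188.Line
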