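import Groth.Prelude.Def_StMap
import Groth.Prelude.Def_W4swstmapratcurvesHyp
import Groth.Agent.Desc.K390.PnSec

/-!
# Lines on hypersurfaces: definitions

* `P1 T`, `pr T : P1 T ⟶ T`, `pmap g : P1 T' ⟶ P1 T` (cartesian), `pt T : T ⟶ P1 T` the section `[1 : 0]`;
* `N T` is `O(1)` on `P1 T`, with sections `crd 1 T 0`, `crd 1 T 1` (`X_0`, `X_1`);
* `lsec v c a = v_a X_0 + c_a X_1`, a section of `N T`;
* `OnHyp q G v c`: the form `G` vanishes identically on the line through `v` and `c`;
* `std T m`: the family `P1 T ⟶ T` with section `[1 : 0]` and map `m`.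
-/

set_option autoImplicit false

universe u

open CategoryTheory CategoryTheory.Limits AlgebraicGeometry

namespace K188.LineDef

open K390.PnSec Groth.Agent.Fdesc.LocGen Groth.Agent.Dix.ProjProper
open Groth.Agent.Ega2.H295.PnUniq Groth.Agent.Ega2.H295.PnCoord

/-- The projective line over `T`. -/
noncomputable abbrev P1 (T : Scheme.{u}) : Scheme.{u} := CohB1.ProjSpaceOver 1 T

/-- The projection of the projective line over `T`. -/
noncomputable abbrev pr (T : Scheme.{u}) : P1 T ⟶ T := CohB1.ProjSpaceOver.toBase 1 T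

/-- The morphism `P1 T' ⟶ P1 T` over `g : T' ⟶ T`. -/
noncomputable def pmap {T' T : Scheme.{u}} (g : T' ⟶ T) : P1 T' ⟶ P1 T := liftP (toZ 1 T') (pr T' ≫ g)

section pmap

variable {T'' T' T : Scheme.{u}}

@[reassoc (attr := simp)]
theorem pmap_toZ (g : T' ⟶ T) : pmap g ≫ toZ 1 T = toZ 1 T' := liftP_toZ _ _

@[reassoc (attr := simp)]
theorem pmap_pr (g : T' ⟶ T) : pmap g ≫ pr T = pr T' ≫ g := liftP_toBase _ _

@[simp]
theorem pmap_id : pmap (𝟙 T) = 𝟙 (P1 T) := hom_ext_over (by simp) (by simp)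

@[reassoc]
theorem pmap_comp (h : T'' ⟶ T') (g : T' ⟶ T) : pmap h ≫ pmap g = pmap (h ≫ g) :=
  hom_ext_over (by simp) (by simp)

theorem isPullback_pmap (g : T' ⟶ T) : IsPullback (pmap g) (pr T') (pr T) g := by
  refine IsPullback.of_right (h₁₂ := toZ 1 T) (h₂₂ := specULiftZIsTerminal.from T)
    (v₁₃ := CohB1.ProjSpace.toSpec 1 (ULift.{u} ℤ)) ?_ (pmap_pr g) (isPullback_toZ 1 T)
  rw [pmap_toZ, specULiftZIsTerminal.hom_ext (g ≫ specULiftZIsTerminal.from T) (specULiftZIsTerminal.from T')]
  exact isPullback_toZ 1 T'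

end pmap

section pt

theorem exists_pt0 : ∃ r : Spec (CommRingCat.of (ULift.{u} ℤ)) ⟶ CohB1.ProjSpace 1 Z.{u},
    GivenBy r (Coh.structureModule _) ![one ⊤, 0] := by
  refine exists_givenBy' _ ?_
  rw [eq_top_iff]
  refine le_trans ?_ (le_iSup _ (0 : Fin (1 + 1)))
  rw [le_genLocus_iff, sec_homOf]
  have : (![one ⊤, 0] : Fin (1 + 1) → Γ(Coh.structureModule (Spec (CommRingCat.of (ULift.{u} ℤ))), ⊤)) 0 =
    one ⊤ := rfl
  rw [this, res_refl]
  exact isGen_one ⊤

/-- The point `[1 : 0]` of the projective line over the integers. -/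
noncomputable def pt0 : Spec (CommRingCat.of (ULift.{u} ℤ)) ⟶ CohB1.ProjSpace 1 Z.{u} := exists_pt0.choose

theorem givenBy_pt0 : GivenBy pt0.{u} (Coh.structureModule _) ![one ⊤, 0] := exists_pt0.choose_spec

/-- The section `[1 : 0]` of the projective line over `T`. -/
noncomputable def pt (T : Scheme.{u}) : T ⟶ P1 T := liftP (specULiftZIsTerminal.from T ≫ pt0) (𝟙 T)

variable {T' T : Scheme.{u}}

@[reassoc (attr := simp)]
theorem pt_toZ : pt T ≫ toZ 1 T = specULiftZIsTerminal.from T ≫ pt0 := liftP_toZ _ _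

@[reassoc (attr := simp)]
theorem pt_pr : pt T ≫ pr T = 𝟙 T := liftP_toBase _ _

@[reassoc]
theorem pt_pmap (g : T' ⟶ T) : pt T' ≫ pmap g = g ≫ pt T := by
  refine hom_ext_over ?_ ?_
  · rw [Category.assoc, pmap_toZ, pt_toZ, Category.assoc, pt_toZ, ← Category.assoc]
    congr 1
    exact specULiftZIsTerminal.hom_ext _ _
  · rw [Category.assoc, pmap_pr, Category.assoc, pt_pr, ← Category.assoc, pt_pr, Category.id_comp, Category.comp_id]

end pt

/-- The sheaf `O(1)` on the projective line over `T`. -/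
noncomputable abbrev N (T : Scheme.{u}) : (P1 T).Modules :=
  (Scheme.Modules.pullback (toZ 1 T)).obj (O1 1 Z.{u})

variable {n d : ℕ}

/-- The section `v_a X_0 + c_a X_1` of `O(1)` on the projective line over `T`. -/
noncomputable def lsec {T : Scheme.{u}} (v c : Fin (n + 1) → Γ(T, ⊤)) (a : Fin (n + 1)) : Γ(N T, ⊤) :=
  ((pr T).appTop (v a)) • crd 1 T 0 + ((pr T).appTop (c a)) • crd 1 T 1

section Form

variable {k : Type u} [Field k]

/-- The scalars as functions on a scheme over `k`. -/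
noncomputable def kmap {T : Scheme.{u}} (q : T ⟶ Spec (CommRingCat.of k)) : k →+* Γ(T, ⊤) :=
  q.appTop.hom.comp (Scheme.ΓSpecIso (CommRingCat.of k)).inv.hom

/-- The linear form `v_a X_0 + c_a X_1` in two variables. -/
noncomputable def lin {A : Type u} [CommRing A] (v c : Fin (n + 1) → A) (a : Fin (n + 1)) :
    MvPolynomial (Fin 2) A :=
  MvPolynomial.C (v a) * MvPolynomial.X 0 + MvPolynomial.C (c a) * MvPolynomial.X 1

/-- The form `G` restricted to the line through `v` and `c`, a binary form with coefficients in `A`. -/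
noncomputable def restr {A : Type u} [CommRing A] (φ : k →+* A) (G : LefPen.Form n k d)
    (v c : Fin (n + 1) → A) : MvPolynomial (Fin 2) A :=
  MvPolynomial.eval₂ (MvPolynomial.C.comp φ) (lin v c) G.1

/-- The form `G` vanishes identically on the line through `v` and `c`. -/
def OnHyp {T : Scheme.{u}} (q : T ⟶ Spec (CommRingCat.of k)) (G : LefPen.Form n k d)
    (v c : Fin (n + 1) → Γ(T, ⊤)) : Prop := restr (kmap q) G v c = 0

/-- The family `P1 T ⟶ T` with the section `[1 : 0]` and a map to the target. -/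
noncomputable def std {S : Scheme.{u}} {X : Over S} (T : Over S) (m : P1 T.left ⟶ X.left)
    (hm : m ≫ X.hom = pr T.left ≫ T.hom) : StMap.MapFamObj S 1 X where
  base := T
  C := P1 T.left
  f := pr T.left
  sect _ := pt T.left
  sect_f _ := pt_pr
  map := m
  map_over := hm

end Form

end K188.LineDef
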