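import Groth.Agent.Fano.K188.LineDef
import Mathlib.RingTheory.KrullDimension.Basic

/-!
# The coordinate rings of the charts of the scheme of pointed lines

* `ARing G i = k[V_0, …, V_n] / (V_i - 1, G(V))`: the chart `x_i ≠ 0` of the hypersurface;
* `RRing G i j = k[V, C] / (V_i - 1, C_i, C_j - 1, coefficients of G(V X_0 + C X_1))`: pointed lines;
* `toR G i j : ARing G i →+* RRing G i j`;
* `Good G`: through each point `v`, `v_i = 1`, of the hypersurface the cone of lines has the expected dimension.
-/

set_option autoImplicit false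

universe u

open MvPolynomial

namespace K188.LineRing

open K188.LineDef

variable {k : Type u} [Field k] {n d : ℕ}

/-- The generic point `V`. -/
noncomputable abbrev vv (k : Type u) [Field k] (n : ℕ) (a : Fin (n + 1)) :
    MvPolynomial (Fin (n + 1) ⊕ Fin (n + 1)) k := X (Sum.inl a)

/-- The generic direction `C`. -/
noncomputable abbrev cc (k : Type u) [Field k] (n : ℕ) (a : Fin (n + 1)) :
    MvPolynomial (Fin (n + 1) ⊕ Fin (n + 1)) k := X (Sum.inr a)

/-- The ideal of the chart `x_i = 1` of the hypersurface. -/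
noncomputable def AIdeal (G : LefPen.Form n k d) (i : Fin (n + 1)) : Ideal (MvPolynomial (Fin (n + 1)) k) :=
  Ideal.span {X i - 1, G.1}

/-- The coordinate ring of the chart `x_i = 1` of the hypersurface. -/
abbrev ARing (G : LefPen.Form n k d) (i : Fin (n + 1)) : Type u := MvPolynomial (Fin (n + 1)) k ⧸ AIdeal G i

/-- The ideal of pointed lines. -/
noncomputable def RIdeal (G : LefPen.Form n k d) (i j : Fin (n + 1)) :
    Ideal (MvPolynomial (Fin (n + 1) ⊕ Fin (n + 1)) k) :=
  Ideal.span ({vv k n i - 1, cc k n i, cc k n j - 1} ∪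
    Set.range fun e : Fin 2 →₀ ℕ => coeff e (restr C G (vv k n) (cc k n)))

/-- The coordinate ring of a chart of the scheme of pointed lines. -/
abbrev RRing (G : LefPen.Form n k d) (i j : Fin (n + 1)) : Type u :=
  MvPolynomial (Fin (n + 1) ⊕ Fin (n + 1)) k ⧸ RIdeal G i j

/-- The cone of directions `c`, `c_i = 0`, of the lines through the point `v` of the hypersurface. -/
noncomputable def coneIdeal (G : LefPen.Form n k d) (i : Fin (n + 1)) (v : Fin (n + 1) → k) :
    Ideal (MvPolynomial (Fin (n + 1)) k) :=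
  Ideal.span ({X i} ∪ Set.range fun e : Fin 2 →₀ ℕ => coeff e (restr C G (fun a => C (v a)) X))

/-- The cones of lines through the points of the hypersurface have the expected dimension. -/
def Good (G : LefPen.Form n k d) : Prop :=
  ∀ (i : Fin (n + 1)) (v : Fin (n + 1) → k), v i = 1 → eval v G.1 = 0 →
    ringKrullDim (MvPolynomial (Fin (n + 1)) k ⧸ coneIdeal G i v) ≤ ((n - d : ℕ) : WithBot ℕ∞)

/-- The values of a polynomial whose coefficients lie in an ideal lie in the ideal. -/
theorem eval_mem {A : Type u} [CommRing A] {I : Ideal A} {p : MvPolynomial (Fin 2) A} (h : ∀ e, coeff e p ∈ I)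
    (x : Fin 2 → A) : eval x p ∈ I := by
  rw [eval_eq]
  exact Ideal.sum_mem _ fun e _ => Ideal.mul_mem_right _ _ (h e)

/-- The value of the restriction to a line at `[1 : 0]`. -/
theorem eval_restr {A : Type u} [CommRing A] (φ : k →+* A) (G : LefPen.Form n k d) (v c : Fin (n + 1) → A) :
    eval ![1, 0] (restr φ G v c) = eval₂ φ v G.1 := by
  have h1 : (eval ![1, 0] : MvPolynomial (Fin 2) A →+* A) (restr φ G v c) =
      eval₂ (((eval ![1, 0] : MvPolynomial (Fin 2) A →+* A)).comp (C.comp φ))
        ((eval ![1, 0] : MvPolynomial (Fin 2) A →+* A) ∘ lin v c) G.1 :=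
    (eval₂_comp_left _ _ _ _)
  rw [h1]
  congr 1
  · ext x
    simp
  · funext a
    simp [lin]

theorem AIdeal_le (G : LefPen.Form n k d) (i j : Fin (n + 1)) :
    AIdeal G i ≤ (RIdeal G i j).comap (rename (R := k) (Sum.inl : Fin (n + 1) → Fin (n + 1) ⊕ Fin (n + 1))).toRingHom := by
  refine Ideal.span_le.2 ?_
  rintro p (rfl | hp)
  · change rename Sum.inl (X i - 1) ∈ RIdeal G i j
    have h1 : rename (R := k) (Sum.inl : Fin (n + 1) → Fin (n + 1) ⊕ Fin (n + 1)) (X i - 1) = vv k n i - 1 := by
      simp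
    rw [h1]
    exact Ideal.subset_span (Or.inl (by simp))
  · rw [Set.mem_singleton_iff] at hp
    subst hp
    change rename Sum.inl G.1 ∈ RIdeal G i j
    have h1 : rename (R := k) (Sum.inl : Fin (n + 1) → Fin (n + 1) ⊕ Fin (n + 1)) G.1 =
        eval ![1, 0] (restr C G (vv k n) (cc k n)) := by
      rw [eval_restr]
      have h2 : rename (R := k) (Sum.inl : Fin (n + 1) → Fin (n + 1) ⊕ Fin (n + 1)) =
          aeval (fun a => vv k n a) := by
        ext a
        simp
      rw [h2, aeval_def, MvPolynomial.algebraMap_eq]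
    rw [h1]
    refine eval_mem (fun e => Ideal.subset_span ?_) _
    exact Or.inr ⟨e, rfl⟩

/-- The projection of the scheme of pointed lines to the hypersurface. -/
noncomputable def toR (G : LefPen.Form n k d) (i j : Fin (n + 1)) : ARing G i →ₐ[k] RRing G i j :=
  Ideal.quotientMapₐ _ (rename (R := k) (Sum.inl : Fin (n + 1) → Fin (n + 1) ⊕ Fin (n + 1))) (AIdeal_le G i j)

/-- The ideal of the lines through the point `v` in the chart `c_i = 0`, `c_j = 1`. -/
noncomputable def FIdeal (G : LefPen.Form n k d) (i j : Fin (n + 1)) (v : Fin (n + 1) → k) :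
    Ideal (MvPolynomial (Fin (n + 1)) k) :=
  Ideal.span ({X i, X j - 1} ∪ Set.range fun e : Fin 2 →₀ ℕ => coeff e (restr C G (fun a => C (v a)) X))

/-- The coordinate ring of a chart of the scheme of lines through the point `v`. -/
abbrev FRing (G : LefPen.Form n k d) (i j : Fin (n + 1)) (v : Fin (n + 1) → k) : Type u :=
  MvPolynomial (Fin (n + 1)) k ⧸ FIdeal G i j v

/-- Substituting `v` for `V`. -/
noncomputable def sub (v : Fin (n + 1) → k) :
    MvPolynomial (Fin (n + 1) ⊕ Fin (n + 1)) k →ₐ[k] MvPolynomial (Fin (n + 1)) k :=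
  aeval (Sum.elim (fun a => C (v a)) X)

/-- Naturality of the restriction to a line. -/
theorem map_restr {A B : Type u} [CommRing A] [CommRing B] (φ : k →+* A) (ψ : A →+* B) (G : LefPen.Form n k d)
    (v c : Fin (n + 1) → A) : map ψ (restr φ G v c) = restr (ψ.comp φ) G (ψ ∘ v) (ψ ∘ c) := by
  have h1 : (map ψ : MvPolynomial (Fin 2) A →+* MvPolynomial (Fin 2) B) (restr φ G v c) =
      eval₂ ((map ψ : MvPolynomial (Fin 2) A →+* _).comp (C.comp φ))
        ((map ψ : MvPolynomial (Fin 2) A →+* MvPolynomial (Fin 2) B) ∘ lin v c) G.1 :=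
    (eval₂_comp_left _ _ _ _)
  rw [h1, restr]
  congr 1
  · ext x
    simp
  · funext a
    simp [lin]

theorem sub_coeff (G : LefPen.Form n k d) (v : Fin (n + 1) → k) (e : Fin 2 →₀ ℕ) :
    sub v (coeff e (restr C G (vv k n) (cc k n))) = coeff e (restr C G (fun a => C (v a)) X) := by
  have h1 := map_restr C (sub v).toRingHom G (vv k n) (cc k n)
  have h2 : ((sub v).toRingHom.comp C : k →+* _) = C := by
    ext x
    simp [sub]
  have h3 : ((sub v).toRingHom ∘ vv k n) = fun a => (C (v a) : MvPolynomial (Fin (n + 1)) k) := by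
    funext a
    simp [sub]
  have h4 : ((sub v).toRingHom ∘ cc k n) = (X : Fin (n + 1) → MvPolynomial (Fin (n + 1)) k) := by
    funext a
    simp [sub]
  rw [h2, h3, h4] at h1
  rw [← h1, coeff_map]
  rfl

theorem RIdeal_le (G : LefPen.Form n k d) (i j : Fin (n + 1)) (v : Fin (n + 1) → k) (hv : v i = 1) :
    RIdeal G i j ≤ (FIdeal G i j v).comap (sub v).toRingHom := by
  refine Ideal.span_le.2 ?_
  rintro p ((rfl | rfl | hp) | ⟨e, rfl⟩)
  · change sub v (vv k n i - 1) ∈ FIdeal G i j v
    have : sub v (vv k n i - 1) = 0 := by simp [sub, hv]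
    rw [this]
    exact zero_mem _
  · change sub v (cc k n i) ∈ FIdeal G i j v
    have : sub v (cc k n i) = X i := by simp [sub]
    rw [this]
    exact Ideal.subset_span (Or.inl (by simp))
  · rw [Set.mem_singleton_iff] at hp
    subst hp
    change sub v (cc k n j - 1) ∈ FIdeal G i j v
    have : sub v (cc k n j - 1) = X j - 1 := by simp [sub]
    rw [this]
    exact Ideal.subset_span (Or.inl (by simp))
  · change sub v _ ∈ FIdeal G i j v
    rw [sub_coeff]
    exact Ideal.subset_span (Or.inr ⟨e, rfl⟩)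

/-- The inclusion of the fibre over `v`. -/
noncomputable def toF (G : LefPen.Form n k d) (i j : Fin (n + 1)) (v : Fin (n + 1) → k) (hv : v i = 1) :
    RRing G i j →ₐ[k] FRing G i j v :=
  Ideal.quotientMapₐ _ (sub v) (RIdeal_le G i j v hv)

/-- The point `v` of the chart of the hypersurface. -/
noncomputable def evA (G : LefPen.Form n k d) (i : Fin (n + 1)) (v : Fin (n + 1) → k) (hv : v i = 1)
    (h0 : eval v G.1 = 0) : ARing G i →ₐ[k] k :=
  Ideal.Quotient.liftₐ _ (aeval v) (by
    intro a ha
    have h1 : AIdeal G i ≤ RingHom.ker (aeval v : MvPolynomial (Fin (n + 1)) k →ₐ[k] k) := by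
      refine Ideal.span_le.2 ?_
      rintro p (rfl | hp)
      · simp [hv]
      · rw [Set.mem_singleton_iff] at hp
        subst hp
        change aeval v G.1 = 0
        rw [aeval_eq_eval]
        exact h0
    exact h1 ha)

end K188.LineRing
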