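import Groth.Agent.Fano.K188.HChart
import Groth.Agent.AlgSt.K741.OfSp
import Groth.Agent.AlgSt.K741.SpProp

/-!
# Flatness of the evaluation

* `locQ_flat`.
-/

set_option autoImplicit false
set_option backward.isDefEq.respectTransparency false
set_option backward.isDefEq.respectTransparency.types false
universe u
open CategoryTheory CategoryTheory.Limits AlgebraicGeometry TopologicalSpace

namespace K188.Loc

open K390.PnSec Groth.Agent.Fdesc.LocGen Groth.Agent.Dix.ProjProper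
open Groth.Agent.Ega2.H295.PnUniq Groth.Agent.Ega2.H295.PnCoord
open K188.LineDef K188.LineRing K188.LinP1 K188.FamIso W4swstmapratcurves
open K188.QuotSpec K188.Line K188.StChart K188.UChart K594.Cover K188.Sig K188.HChart
open K862.Fib K862.Yon

attribute [local instance] MvPolynomial.gradedAlgebra

variable {k : Type u} [Field k] {n d : ℕ} {G : LefPen.Form n k d}

/-- The index set. -/
abbrev II (n : ℕ) : Type u := ULift.{u} {p : Fin (n + 1) × Fin (n + 1) // p.1 ≠ p.2}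

/-- The charts. -/
noncomputable abbrev VV (G : LefPen.Form n k d) (p : II.{u} n) : Over (SS k) := UO G p.down.1.1 p.down.1.2

/-- The lines. -/
noncomputable abbrev DD (G : LefPen.Form n k d) (p : II.{u} n) : Dat G p.down.1.1 p.down.1.2 (VV G p) :=
  uD G p.down.1.1 p.down.1.2

instance isFibGrpd_MS : FibCat.IsFibGrpd (MS G).p := K655.MapPre.isFibGrpd_mapSt _ _ _ _ _ _

/-- The object over the disjoint union. -/
noncomputable def sO (hA : StdStable G) : (MS G).p.Fiber (sig (VV G)) := ⟨⟨sF (DD G), stab_sF (DD G) hA⟩, rfl⟩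

/-- The arrows. -/
noncomputable def aO (hA : StdStable G) (p : II.{u} n) : (dO hA (DD G p)).1 ⟶ (sO hA).1 := ⟨sArr (DD G) p⟩

theorem aO_lift (hA : StdStable G) (p : II.{u} n) : (MS G).p.IsHomLift (sigι (VV G) p) (aO hA p) :=
  IsHomLift.map (MS G).p (aO hA p)

theorem markedPt_id {Ω : Type u} [Field Ω] {C : Scheme.{u}} (f : C ⟶ Spec (CommRingCat.of Ω))
    (sect : Fin 1 → (Spec (CommRingCat.of Ω) ⟶ C)) (hσ : ∀ i, sect i ≫ f = 𝟙 _)
    (hP : IsPullback (𝟙 C) f f (𝟙 (Spec (CommRingCat.of Ω)))) :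
    CurvSt.markedPt sect hσ hP 0 = sect 0 (IsLocalRing.closedPoint Ω) := by
  unfold CurvSt.markedPt
  have h4 : hP.lift (𝟙 _ ≫ sect 0) (𝟙 _) (by rw [Category.assoc, hσ]) = sect 0 :=
    (Category.comp_id _).symm.trans ((hP.lift_fst _ _ _).trans (Category.id_comp _))
  exact congr($h4 (IsLocalRing.closedPoint Ω))

/-- Geometric points lie in the charts, with one index given. -/
theorem exists_partner' (hB : GeoFib k n) {Ω : Type u} [Field Ω] [IsAlgClosed Ω] {w : Spec (CommRingCat.of Ω) ⟶ SS k}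
    (A : StMap.MapFamObj (SS k) 1 (hypOver G)) (hbase : A.base = Over.mk w) (hs : Stab A) (i : Fin (n + 1))
    (hi : ∀ t : A.base.left, inc G (A.map (A.sect 0 t)) ∈ Dp (Fin (n + 1)) k i) : ∃ j, i ≠ j ∧ InChart i j A := by
  obtain ⟨⟨base, C, f, sect, sect_f⟩, map, map_over⟩ := A
  change base = Over.mk w at hbase
  subst hbase
  change C ⟶ Spec (CommRingCat.of Ω) at f
  have hP : IsPullback (𝟙 C) f f (𝟙 (Spec (CommRingCat.of Ω))) := by
    refine IsPullback.of_horiz_isIso ⟨?_⟩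
    rw [Category.id_comp, Category.comp_id]
  have h1 := hs.1.2.2.2 Ω (𝟙 _) C (𝟙 C) f hP
  have h2 := isFibDeg_comp (inc G) hs.2 Ω (𝟙 _) C (𝟙 C) f hP
  rw [Category.id_comp] at h1 h2
  have hinj : Function.Injective (inc G) := (inc G).isClosedEmbedding.injective
  have h3 := isStableMap_comp h1 (inc G) hinj
  have hx : CurvSt.markedPt sect sect_f hP 0 = sect 0 (IsLocalRing.closedPoint Ω) := markedPt_id f sect sect_f hP
  obtain ⟨j, hij, hj⟩ := exists_partner hB Ω f (CurvSt.markedPt sect sect_f hP) (map ≫ inc G) w (by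
    rw [Category.assoc]
    exact map_over) h3 h2 i (by
    rw [hx, Scheme.Hom.comp_apply]
    exact hi _)
  refine ⟨j, hij, hi, fun c => ?_⟩
  have h4 := hj c
  rw [Scheme.Hom.comp_apply] at h4
  exact h4

/-- The charts of projective space cover. -/
theorem exists_mem_Dp (x : CohB1.ProjSpace n k) : ∃ i, x ∈ Dp (Fin (n + 1)) k i := by
  have h1 : x ∈ (⊤ : (CohB1.ProjSpace n k).Opens) := trivial
  rw [← (givenBy_one n k).iSup_genLocus, Opens.mem_iSup] at h1
  obtain ⟨i, hi⟩ := h1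
  refine ⟨i, ?_⟩
  have h2 := preimage_Dp (givenBy_one n k) i
  have h3 : x ∈ (𝟙 (CohB1.ProjSpace n k)) ⁻¹ᵁ Dp (Fin (n + 1)) k i := by
    rw [h2]
    exact hi
  exact h3

/-- Geometric points lie in the charts. -/
theorem exists_inChart (hB : GeoFib k n) {Ω : Type u} [Field Ω] [IsAlgClosed Ω] {w : Spec (CommRingCat.of Ω) ⟶ SS k}
    (t : (MS G).p.Fiber (Over.mk w)) : ∃ p : II.{u} n, Nonempty (t.1.obj ⟶ dF (DD G p)) := by
  obtain ⟨t, ht⟩ := t
  have hss : ∀ s s' : t.obj.base.left, s = s' := by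
    have h1 : t.obj.base = Over.mk w := ht
    rw [h1]
    intro s s'
    exact @Subsingleton.elim (Spec (CommRingCat.of Ω)) _ s s'
  have hne : Nonempty t.obj.base.left := by
    have h1 : t.obj.base = Over.mk w := ht
    rw [h1]
    exact ⟨IsLocalRing.closedPoint Ω⟩
  obtain ⟨s₀⟩ := hne
  obtain ⟨i, hi⟩ := exists_mem_Dp (inc G (t.obj.map (t.obj.sect 0 s₀)))
  obtain ⟨j, hij, hj⟩ := exists_partner' hB t.obj ht t.property i (fun s => by rw [hss s s₀]; exact hi)
  exact ⟨⟨⟨(i, j), hij⟩⟩, (nonempty_hom_u hB t.property).2 hj⟩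

theorem rep_sO (hA : StdStable G) (hB : GeoFib k n) :
    AlgSt.RepByAlgSpWith (AlgSp.LocP @Smooth) (ofObj (sO hA)) :=
  rep_sig (VV G) (sO hA) (fun p => dO hA (DD G p)) (aO hA) (aO_lift hA) (K655.MapPre.isPrestack_mapSt _ _ _ _ _ _)
    fun p => openChart_u hA hB

theorem surj_sO (hA : StdStable G) (hB : GeoFib k n) :
    AlgSt.RepByAlgSpWith AlgSp.IsSurjectiveMor (ofObj (sO hA)) :=
  surj_sig (VV G) (sO hA) (fun p => dO hA (DD G p)) (fun Ω _ _ w t => by
    obtain ⟨p, ⟨a⟩⟩ := exists_inChart hB t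
    exact ⟨p, ⟨⟨a⟩⟩⟩) (rep_sO hA hB) (aO hA)

/-- The evaluation of the universal line. -/
noncomputable def evh (G : LefPen.Form n k d) : sig (VV.{u} G) ⟶ hypOver G :=
  Over.homMk (pt _ ≫ sm (DD G)) (by
    rw [Category.assoc, sm_over, pt_pr_assoc])

theorem flat_evh [IsAlgClosed k] (hG : Good G) (hd : 1 ≤ d) (hdn : d + 3 ≤ n) : Flat (evh G).left := by
  have h1 : ∀ p, Flat ((sigι (VV G) p).left ≫ (evh G).left) := fun p => by
    have h2 : (sigι (VV G) p).left ≫ (evh G).left = pt _ ≫ um G p.down.1.1 p.down.1.2 := by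
      change (sigι (VV G) p).left ≫ pt _ ≫ sm (DD G) = pt _ ≫ dm (DD G p)
      rw [← pmap_sm (DD G) p, ← Category.assoc, ← pt_pmap, Category.assoc]
    rw [h2]
    exact flat_pt_um hG hd hdn p.down.2
  exact (IsZariskiLocalAtSource.iff_of_openCover (P := @Flat) (sigmaOpenCover fun p => (VV G p).left)).2 h1

/-- The evaluation functor. -/
noncomputable abbrev evF (G : LefPen.Form n k d) : MS G ⥤ᵇ FibCat.overCat (hypOver G) :=
  StMap.MapSt.ev (SS k) (hypOver G) (hypO1 G) 0 1 1 0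

/-- The comparison of the two objects over the disjoint union. -/
theorem exists_cmp (hA : StdStable G) : Nonempty (objOf (BasedFunctor.comp (ofObj (sO hA)) (evF G)) ⟶
    objOf (BasedFunctor.comp (AlgSt.overMap (evh.{u} G)) (BasedFunctor.id _))) := by
  let c : objOf (ofObj (sO hA)) ⟶ sO hA := objOfOfObj (sO hA)
  let a : (evF G).obj (objOf (ofObj (sO hA))).1 ⟶ (evF G).obj (sO hA).1 := (evF G).map c.1
  have ha : (FibCat.overCat (hypOver G)).p.IsHomLift (𝟙 (sig (VV.{u} G))) a :=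
    haveI := c.2
    BasedFunctor.preserves_isHomLift (evF G) (𝟙 _) c.1
  let b : (evF G).obj (sO hA).1 ⟶ (objOf (BasedFunctor.comp (AlgSt.overMap (evh.{u} G)) (BasedFunctor.id _))).1 :=
    Over.homMk (𝟙 (sig (VV.{u} G))) (by
      apply Over.OverMorphism.ext
      change 𝟙 _ ≫ 𝟙 _ ≫ pt _ ≫ sm (DD G) = pt _ ≫ sm (DD G)
      rw [Category.id_comp, Category.id_comp])
  have hb : (FibCat.overCat (hypOver G)).p.IsHomLift (𝟙 (sig (VV.{u} G))) b := overCat_isHomLift b
  refine ⟨⟨a ≫ b, ?_⟩⟩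
  have h1 := IsHomLift.comp_lift_id_right (FibCat.overCat (hypOver G)).p (𝟙 (sig (VV.{u} G))) a b
  exact h1

/-- Flatness of the evaluation. -/
theorem locQ_flat [IsAlgClosed k] (hA : StdStable G) (hB : GeoFib k n) (hG : Good G) (hd : 1 ≤ d) (hdn : d + 3 ≤ n) :
    AlgSt.LocQ (AlgSp.LocP @Flat) (StMap.MapSt.ev (SS k) (hypOver G) (hypO1 G) 0 1 1 0) := by
  obtain ⟨α⟩ := exists_cmp hA
  refine ⟨sig (VV G), hypOver G, ofObj (sO hA), BasedFunctor.id _, evh G, isoOf α, rep_sO hA hB, surj_sO hA hB, ?_, ?_⟩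
  · exact K741.repByAlgSpWith_id _ fun V => K741.smooth_of_isIso _
  · exact K597.locP_of_repWith (P := @Flat) K597.etLoc_flat.precomp
      ((AlgSp.repWith_yon_map_iff _ _).2 (flat_evh hG hd hdn))

end K188.Loc
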