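import Groth.Agent.Fano.K188.LinFun
import Mathlib.RingTheory.MvPolynomial.Homogeneous

/-!
# Linear maps from the projective line to a hypersurface

* `exists_lift_iff`: node D2.
-/

set_option autoImplicit false
universe u
open CategoryTheory CategoryTheory.Limits AlgebraicGeometry TopologicalSpace

namespace K188.OnHypL

open K390.PnSec Groth.Agent.Fdesc.LocGen Groth.Agent.Dix.ProjProper
open Groth.Agent.Ega2.H295.PnUniq Groth.Agent.Ega2.H295.PnCoord
open Groth.Agent.Lefpen.H711.PencilMap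
open Groth.Agent.VarietyB Groth.Agent.VarietyB.ProjGlue Groth.Agent.VarietyB.ProjStd
open K188.LineDef K188.MapP1 K188.HypFac K188.LinFun

attribute [local instance] MvPolynomial.gradedAlgebra

variable {X Y T : Scheme.{u}} {k : Type u} [Field k] {n d : ℕ}

/-- Values of the restriction of a form to a line. -/
theorem eval₂_restr {A B : Type u} [CommRing A] [CommRing B] (φ : k →+* A) (ψ : A →+* B) (x : Fin 2 → B)
    (G : LefPen.Form n k d) (v c : Fin (n + 1) → A) :
    MvPolynomial.eval₂ ψ x (restr φ G v c) =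
      MvPolynomial.eval₂ (ψ.comp φ) (fun b => ψ (v b) * x 0 + ψ (c b) * x 1) G.1 := by
  have h1 : (MvPolynomial.eval₂Hom ψ x) (restr φ G v c) =
      MvPolynomial.eval₂ ((MvPolynomial.eval₂Hom ψ x).comp (MvPolynomial.C.comp φ))
        ((MvPolynomial.eval₂Hom ψ x) ∘ lin v c) G.1 := MvPolynomial.eval₂_comp_left _ _ _ _
  refine Eq.trans h1 ?_
  congr 1
  · ext a
    simp
  · funext a
    simp [lin]

theorem isHomogeneous_restr {A : Type u} [CommRing A] (φ : k →+* A) (G : LefPen.Form n k d)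
    (v c : Fin (n + 1) → A) : (restr φ G v c).IsHomogeneous d := by
  have h1 := ((MvPolynomial.mem_homogeneousSubmodule _ _).1 G.2).eval₂ (MvPolynomial.C.comp φ) (lin v c)
    (fun r => MvPolynomial.isHomogeneous_C _ _) (n := 1) (fun a => by
      refine MvPolynomial.IsHomogeneous.add ?_ ?_
      · simpa using (MvPolynomial.isHomogeneous_C (Fin 2) (v a)).mul (MvPolynomial.isHomogeneous_X A 0)
      · simpa using (MvPolynomial.isHomogeneous_C (Fin 2) (c a)).mul (MvPolynomial.isHomogeneous_X A 1))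
  rwa [one_mul] at h1

/-- A binary form vanishing at `[1 : y]` is zero. -/
theorem eq_zero_of_eval {A : Type*} [CommRing A] {p : MvPolynomial (Fin 2) A} (hp : p.IsHomogeneous d)
    (h : MvPolynomial.eval₂ Polynomial.C ![1, Polynomial.X] p = 0) : p = 0 := by
  by_contra hne
  obtain ⟨e, he⟩ := MvPolynomial.support_nonempty.2 hne
  have h1 : (MvPolynomial.eval₂ Polynomial.C ![1, Polynomial.X] p).coeff (e 1) = 0 := by rw [h, Polynomial.coeff_zero]
  rw [MvPolynomial.eval₂_eq, Polynomial.finsetSum_coeff] at h1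
  have hd : ∀ e ∈ p.support, e 0 + e 1 = d := fun e he => by
    have := hp (MvPolynomial.mem_support_iff.1 he)
    rw [← this, Finsupp.weight_apply, Finsupp.sum_fintype _ _ (by simp)]
    simp
  have h2 : ∀ e ∈ p.support, ∏ i ∈ e.support, ((![1, Polynomial.X] : Fin 2 → Polynomial A) i) ^ e i =
      Polynomial.X ^ e 1 := fun e _ => by
    rw [Finset.prod_subset (Finset.subset_univ e.support) (fun i _ hi => by
      rw [Finsupp.notMem_support_iff.1 hi, pow_zero])]
    simp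
  rw [Finset.sum_eq_single e] at h1
  · rw [h2 e he, Polynomial.coeff_C_mul, Polynomial.coeff_X_pow, if_pos rfl, mul_one] at h1
    exact MvPolynomial.mem_support_iff.1 he h1
  · intro e' he' hne'
    rw [h2 e' he', Polynomial.coeff_C_mul, Polynomial.coeff_X_pow, if_neg, mul_zero]
    intro h3
    apply hne'
    have h4 := hd e he
    have h5 := hd e' he'
    ext i
    fin_cases i
    · change e' 0 = e 0
      omega
    · change e' 1 = e 1
      omega
  · intro h3
    exact absurd he h3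

theorem cst_eq (q : T ⟶ Spec (CommRingCat.of k)) (g : Y ⟶ T) (r : Y ⟶ Spec (CommRingCat.of k)) (hr : r = g ≫ q)
    (W : Y.Opens) : cst r W = ((ores (le_top : W ≤ ⊤)).comp g.appTop.hom).comp (kmap q) := by
  subst hr
  ext a
  simp only [cst, CoordData.baseHom, RingHom.comp_apply, kmap]
  rw [Scheme.Hom.comp_appTop]
  rfl

theorem eval₂_cst_eq (q : T ⟶ Spec (CommRingCat.of k)) (g : Y ⟶ T) (r : Y ⟶ Spec (CommRingCat.of k))
    (hr : r = g ≫ q) (W : Y.Opens) (x : Fin 2 → Γ(Y, W)) (G : LefPen.Form n k d) (v c : Fin (n + 1) → Γ(T, ⊤)) :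
    MvPolynomial.eval₂ (cst r W) (fun b => ores (le_top : W ≤ ⊤) (g.appTop (v b)) * x 0 +
      ores (le_top : W ≤ ⊤) (g.appTop (c b)) * x 1) G.1 =
      MvPolynomial.eval₂ ((ores (le_top : W ≤ ⊤)).comp g.appTop.hom) x (restr (kmap q) G v c) := by
  rw [eval₂_restr, cst_eq q g r hr]
  rfl

/-- One direction of node D2. -/
theorem exists_lift {q : T ⟶ Spec (CommRingCat.of k)} {r : P1 T ⟶ CohB1.ProjSpace n k}
    (hr : r ≫ CohB1.ProjSpace.toSpec n k = pr T ≫ q) {v c : Fin (n + 1) → Γ(T, ⊤)}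
    (h : GivenBy r (N T) (lsec v c)) (G : LefPen.Form n k d) (hG : OnHyp q G v c) :
    ∃ m : P1 T ⟶ (LefPen.hypIdeal G).subscheme, m ≫ (LefPen.hypIdeal G).subschemeι = r := by
  let W : Fin 2 → (P1 T).Opens := fun a => gl (crd 1 T a)
  have he : ∀ a, IsGen (res (N T) (le_top : W a ≤ ⊤) (crd 1 T a)) := fun a => isGen_res_gl _
  choose y hy using fun (a b : Fin 2) => (he a).exists_eq (res (N T) (le_top : W a ≤ ⊤) (crd 1 T b))
  refine (exists_lift_iff_eval₂ h G W (fun x => ?_) (fun a => res (N T) (le_top : W a ≤ ⊤) (crd 1 T a)) he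
    (fun a b => ores (le_top : W a ≤ ⊤) ((pr T).appTop (v b)) * y a 0 +
      ores (le_top : W a ≤ ⊤) ((pr T).appTop (c b)) * y a 1) (fun a b => ?_)).2 fun a => ?_
  · rcases gl_crd x with h1 | h1
    · exact ⟨0, h1⟩
    · exact ⟨1, h1⟩
  · rw [lsec, map_add, res_smul, res_smul, hy a 0, hy a 1, add_smul, mul_smul, mul_smul]
  · rw [eval₂_cst_eq q (pr T) _ hr (W a) (y a) G v c, hG, MvPolynomial.eval₂_zero]

/-- The other direction over an affine base. -/
theorem onHyp_of_isAffine [IsAffine T] {q : T ⟶ Spec (CommRingCat.of k)} {r : P1 T ⟶ CohB1.ProjSpace n k}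
    (hr : r ≫ CohB1.ProjSpace.toSpec n k = pr T ≫ q) {v c : Fin (n + 1) → Γ(T, ⊤)}
    (h : GivenBy r (N T) (lsec v c)) (G : LefPen.Form n k d)
    (hG : ∃ m : P1 T ⟶ (LefPen.hypIdeal G).subscheme, m ≫ (LefPen.hypIdeal G).subschemeι = r) : OnHyp q G v c := by
  let A := Γ(T, ⊤)
  let f : A ⟶ CommRingCat.of (Polynomial A) := CommRingCat.ofHom Polynomial.C
  let Y : Scheme.{u} := Spec (CommRingCat.of (Polynomial A))
  let g : Y ⟶ T := Spec.map f ≫ T.isoSpec.inv
  have hg : g.appTop = f ≫ (Scheme.ΓSpecIso (CommRingCat.of (Polynomial A))).inv := by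
    have h1 : T.isoSpec.inv.appTop = (Scheme.ΓSpecIso A).inv := by
      have h2 : T.isoSpec.hom.appTop = (Scheme.ΓSpecIso A).hom := by
        rw [Scheme.isoSpec_hom, Scheme.toSpecΓ_appTop]
      rw [← Iso.comp_hom_eq_id, ← h2, ← Scheme.Hom.comp_appTop, T.isoSpec.hom_inv_id, Scheme.Hom.id_appTop]
    rw [Scheme.Hom.comp_appTop, h1, ← Scheme.ΓSpecIso_inv_naturality]
  let y : Fin (1 + 1) → Γ(Y, ⊤) := fun a =>
    (Scheme.ΓSpecIso (CommRingCat.of (Polynomial A))).inv.hom ((![1, Polynomial.X] : Fin 2 → Polynomial A) a)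
  obtain ⟨ψ, hψ, hψ'⟩ := exists_pt g y 0 (map_one _)
  have h1 := givenBy_comp_lsec' hψ' h
  obtain ⟨m, hm⟩ := hG
  have h2 := (exists_lift_iff_eval₂ h1 G (fun _ : Unit => (⊤ : Y.Opens)) (fun _ => ⟨(), trivial⟩) (fun _ => one ⊤)
    (fun _ => isGen_one ⊤) (fun _ a => (ψ ≫ pr T).appTop (v a) * y 0 + (ψ ≫ pr T).appTop (c a) * y 1)
    (fun _ b => by rw [res_refl, ofFun_eq_smul])).1 ⟨ψ ≫ m, by rw [Category.assoc, hm]⟩ ()
  have h3 := eval₂_cst_eq q g ((ψ ≫ r) ≫ CohB1.ProjSpace.toSpec n k) (by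
    rw [Category.assoc, hr, ← Category.assoc, hψ]) (⊤ : Y.Opens) y G v c
  rw [hψ] at h2
  simp only [ores_refl] at h3
  rw [h2] at h3
  have h4 : ((ores (le_top : (⊤ : Y.Opens) ≤ ⊤)).comp g.appTop.hom) =
      (Scheme.ΓSpecIso (CommRingCat.of (Polynomial A))).inv.hom.comp Polynomial.C := by
    rw [hg]
    ext a
    simp only [RingHom.comp_apply, ores_refl, CommRingCat.hom_comp]
    rfl
  rw [h4] at h3
  have h5 := MvPolynomial.eval₂_comp_left (Scheme.ΓSpecIso (CommRingCat.of (Polynomial A))).inv.hom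
    Polynomial.C (![1, Polynomial.X] : Fin 2 → Polynomial A) (restr (kmap q) G v c)
  have h6 : (Scheme.ΓSpecIso (CommRingCat.of (Polynomial A))).inv.hom
      (MvPolynomial.eval₂ Polynomial.C ![1, Polynomial.X] (restr (kmap q) G v c)) = 0 := by
    rw [h5]
    exact h3.symm
  refine eq_zero_of_eval (isHomogeneous_restr _ _ _ _) ?_
  exact (ConcreteCategory.bijective_of_isIso (Scheme.ΓSpecIso (CommRingCat.of (Polynomial A))).inv).1
    (h6.trans (map_zero _).symm)

theorem kmap_comp (q : T ⟶ Spec (CommRingCat.of k)) (g : Y ⟶ T) : kmap (g ≫ q) = g.appTop.hom.comp (kmap q) := by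
  ext a
  simp only [kmap, RingHom.comp_apply]
  rw [Scheme.Hom.comp_appTop]
  rfl

/-- Naturality of the restriction to a line. -/
theorem map_restr {A B : Type u} [CommRing A] [CommRing B] (φ : k →+* A) (ψ : A →+* B) (G : LefPen.Form n k d)
    (v c : Fin (n + 1) → A) : MvPolynomial.map ψ (restr φ G v c) = restr (ψ.comp φ) G (ψ ∘ v) (ψ ∘ c) := by
  have h1 : (MvPolynomial.map ψ : MvPolynomial (Fin 2) A →+* MvPolynomial (Fin 2) B) (restr φ G v c) =
      MvPolynomial.eval₂ ((MvPolynomial.map ψ : MvPolynomial (Fin 2) A →+* _).comp (MvPolynomial.C.comp φ))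
        ((MvPolynomial.map ψ : MvPolynomial (Fin 2) A →+* MvPolynomial (Fin 2) B) ∘ lin v c) G.1 :=
    (MvPolynomial.eval₂_comp_left _ _ _ _)
  rw [h1, restr]
  congr 1
  · ext x
    simp
  · funext a
    simp [lin]

theorem OnHyp.comp {q : T ⟶ Spec (CommRingCat.of k)} {v c : Fin (n + 1) → Γ(T, ⊤)} {G : LefPen.Form n k d}
    (h : OnHyp q G v c) (g : Y ⟶ T) : OnHyp (g ≫ q) G (fun a => g.appTop (v a)) (fun a => g.appTop (c a)) := by
  have h1 := map_restr (kmap q) g.appTop.hom G v c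
  rw [OnHyp] at h ⊢
  rw [h, map_zero] at h1
  rw [kmap_comp]
  exact h1.symm

theorem onHyp_of_cover {q : T ⟶ Spec (CommRingCat.of k)} {v c : Fin (n + 1) → Γ(T, ⊤)} {G : LefPen.Form n k d}
    (𝒰 : T.OpenCover) (h : ∀ i, OnHyp (𝒰.f i ≫ q) G (fun a => (𝒰.f i).appTop (v a)) (fun a => (𝒰.f i).appTop (c a))) :
    OnHyp q G v c := by
  ext e
  rw [MvPolynomial.coeff_zero]
  refine 𝒰.ext_elem _ _ fun i => ?_
  have h1 := map_restr (kmap q) (𝒰.f i).appTop.hom G v c
  have h2 := h i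
  rw [OnHyp, kmap_comp] at h2
  have h3 : MvPolynomial.map (𝒰.f i).appTop.hom (restr (kmap q) G v c) = 0 := h1.trans h2
  have h4 := congrArg (MvPolynomial.coeff e) h3
  rw [MvPolynomial.coeff_map, MvPolynomial.coeff_zero] at h4
  rw [map_zero]
  exact h4

/-- Node D2. -/
theorem exists_lift_iff {q : T ⟶ Spec (CommRingCat.of k)} {r : P1 T ⟶ CohB1.ProjSpace n k}
    (hr : r ≫ CohB1.ProjSpace.toSpec n k = pr T ≫ q) {v c : Fin (n + 1) → Γ(T, ⊤)}
    (h : GivenBy r (N T) (lsec v c)) (G : LefPen.Form n k d) :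
    (∃ m : P1 T ⟶ (LefPen.hypIdeal G).subscheme, m ≫ (LefPen.hypIdeal G).subschemeι = r) ↔ OnHyp q G v c := by
  refine ⟨fun ⟨m, hm⟩ => ?_, exists_lift hr h G⟩
  refine onHyp_of_cover T.affineCover fun i => ?_
  refine onHyp_of_isAffine (r := pmap (T.affineCover.f i) ≫ r) ?_ (lsec_pmap _ h) G
    ⟨pmap (T.affineCover.f i) ≫ m, by rw [Category.assoc, hm]⟩
  rw [Category.assoc, hr, pmap_pr_assoc]

end K188.OnHypL
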