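import Groth.Agent.Fano.K188.LineRing
import Groth.Prelude.Def_AlgSt
import Mathlib.RingTheory.RingHom.Flat

/-!
# Plan for S16938 (pointed lines on a general hypersurface)

All `sorry`s of this file are nodes; do not import this file in a row.  Definitions: `K188.LineDef`, `K188.LineRing`.
-/

set_option autoImplicit false

universe u

open CategoryTheory CategoryTheory.Limits AlgebraicGeometry

namespace K188.PlanL

open K390.PnSec Groth.Agent.Fdesc.LocGen Groth.Agent.Dix.ProjProper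
open Groth.Agent.Ega2.H295.PnUniq Groth.Agent.Ega2.H295.PnCoord
open K188.LineDef K188.LineRing W4swstmapratcurves

variable {k : Type u} [Field k] {n d : ℕ}

/-! ## A : the family `P1 T` with a linear map is a stable family -/

/-- Node A. -/
theorem isStable_std {T : Scheme.{u}} (G : LefPen.Form n k d)
    (m : P1 T ⟶ (hypOver G).left) (v c : Fin (n + 1) → Γ(T, ⊤)) (i j : Fin (n + 1)) (hv : v i = 1) (hc : c i = 0)
    (hcj : c j = 1) (h : GivenBy (m ≫ (LefPen.hypIdeal G).subschemeι) (N T) (lsec v c)) :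
    StMap.IsStableMapFam (pr T) (fun _ : Fin 1 => pt T) (fun _ => pt_pr) m 0 ∧
      StMap.IsFibDeg (pr T) m (hypO1 G) 1 := by
  sorry

/-! ## B : geometric fibres -/

section B

variable (Ω : Type u) [Field Ω] [IsAlgClosed Ω] {C : Scheme.{u}} (q : C ⟶ Spec (CommRingCat.of Ω))
  (x : Fin 1 → C) (μ : C ⟶ CohB1.ProjSpace n k) (a : Spec (CommRingCat.of Ω) ⟶ Spec (CommRingCat.of k))
  (ha : μ ≫ CohB1.ProjSpace.toSpec n k = q ≫ a)
  (h : StMap.IsStableMap Ω C q 0 x μ)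
  (hdeg : letI : C.Over (Spec (CommRingCat.of Ω)) := ⟨q⟩
    Curv2.deg Ω C ((Scheme.Modules.pullback μ).obj (O1 n k)) 1 = 1)

include ha h hdeg

/-- Node B1: a stable map of genus 0 with one marked point and degree 1 has irreducible source. -/
theorem irreducible_of_isStableMap : IrreducibleSpace C := by
  sorry

/-- Node B2. -/
theorem exists_iso_of_isStableMap :
    ∃ (e : C ≅ CohB1.ProjSpace 1 Ω), e.hom ≫ CohB1.ProjSpace.toSpec 1 Ω = q ∧
      Nonempty ((Scheme.Modules.pullback μ).obj (O1 n k) ≅ (Scheme.Modules.pullback e.hom).obj (O1 1 Ω)) := by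
  sorry

/-- Node B3 (from B2). -/
theorem isIso_of_isStableMap (φ : C ⟶ CohB1.ProjSpace 1 Ω) (hφ : φ ≫ CohB1.ProjSpace.toSpec 1 Ω = q)
    (e : (Scheme.Modules.pullback φ).obj (O1 1 Ω) ≅ (Scheme.Modules.pullback μ).obj (O1 n k)) : IsIso φ := by
  sorry

/-- Node B4 (from B2). -/
theorem exists_chart : ∃ i j : Fin (n + 1), i ≠ j ∧ μ (x 0) ∈ Dp (Fin (n + 1)) k i ∧
    ∀ c : C, μ c ∈ Dp (Fin (n + 1)) k i ∨ μ c ∈ Dp (Fin (n + 1)) k j := by
  sorry

end B

/-! ## C : families -/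

/-- Node C1: the sections of `O(1)` on the projective line over `T`. -/
theorem exists_eq_lsec {T : Scheme.{u}} (s : Γ(N T, ⊤)) :
    ∃ a b : Γ(T, ⊤), s = ((pr T).appTop a) • crd 1 T 0 + ((pr T).appTop b) • crd 1 T 1 := by
  sorry

/-- Node C2. -/
theorem exists_iso_std {T C : Scheme.{u}} (qT : T ⟶ Spec (CommRingCat.of k)) (f : C ⟶ T) (σ : T ⟶ C)
    (hσ : σ ≫ f = 𝟙 T) (μ : C ⟶ CohB1.ProjSpace n k) (hμ : μ ≫ CohB1.ProjSpace.toSpec n k = f ≫ qT)
    (hst : StMap.IsStableMapFam f (fun _ : Fin 1 => σ) (fun _ => hσ) μ 0)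
    (hdeg : StMap.IsFibDeg f μ (O1 n k) 1) (i j : Fin (n + 1)) (hij : i ≠ j)
    (hi : ∀ t : T, μ (σ t) ∈ Dp (Fin (n + 1)) k i)
    (hj : ∀ c : C, μ c ∈ Dp (Fin (n + 1)) k i ∨ μ c ∈ Dp (Fin (n + 1)) k j) :
    ∃ (e : P1 T ≅ C) (v c : Fin (n + 1) → Γ(T, ⊤)), e.hom ≫ f = pr T ∧ pt T ≫ e.hom = σ ∧ v i = 1 ∧ c i = 0 ∧
      c j = 1 ∧ GivenBy (e.hom ≫ μ) (N T) (lsec v c) := by
  sorry

/-! ## D : maps from the projective line to a hypersurface -/

/-- Node D1. -/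
theorem exists_map {T : Scheme.{u}} (q : T ⟶ Spec (CommRingCat.of k)) (v c : Fin (n + 1) → Γ(T, ⊤))
    (i j : Fin (n + 1)) (hv : v i = 1) (hc : c i = 0) (hcj : c j = 1) :
    ∃ r : P1 T ⟶ CohB1.ProjSpace n k, r ≫ CohB1.ProjSpace.toSpec n k = pr T ≫ q ∧ GivenBy r (N T) (lsec v c) := by
  sorry

/-- Node D2. -/
theorem exists_lift_iff {T : Scheme.{u}} (q : T ⟶ Spec (CommRingCat.of k)) (r : P1 T ⟶ CohB1.ProjSpace n k)
    (hr : r ≫ CohB1.ProjSpace.toSpec n k = pr T ≫ q) (v c : Fin (n + 1) → Γ(T, ⊤)) (i : Fin (n + 1)) (hv : v i = 1)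
    (hc : c i = 0) (h : GivenBy r (N T) (lsec v c)) (G : LefPen.Form n k d) :
    (∃ m : P1 T ⟶ (LefPen.hypIdeal G).subscheme, m ≫ (LefPen.hypIdeal G).subschemeι = r) ↔ OnHyp q G v c := by
  sorry

/-- Node D3. -/
theorem lsec_unique {T : Scheme.{u}} (r : P1 T ⟶ CohB1.ProjSpace n k) (v c v' c' : Fin (n + 1) → Γ(T, ⊤))
    (i : Fin (n + 1)) (hv : v i = 1) (hc : c i = 0) (hv' : v' i = 1) (hc' : c' i = 0)
    (h : GivenBy r (N T) (lsec v c)) (h' : GivenBy r (N T) (lsec v' c')) : v = v' ∧ c = c' := by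
  sorry

/-! ## E : the stack -/

section E

variable (S : Scheme.{u}) (X : Over S) (L : X.left.Modules) (g N : ℕ) (e : ℤ)

/-- Node E1. -/
theorem isFibGrpd_mapSt : FibCat.IsFibGrpd (StMap.MapSt S X L g N e).p := by
  sorry

/-- Node E2. -/
theorem isPrestack_mapSt : Stk.IsPrestack (AlgSp.J S) (StMap.MapSt S X L g N e) := by
  sorry

/-- Node E3. -/
theorem isPrestack_mapsThrough (i : Fin N) {P : Scheme.{u}} (p : P ⟶ X.left) :
    Stk.IsPrestack (AlgSp.J S) (AlgSt.fullSub (StMap.MapSt S X L g N e)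
      (fun B => StMap.MapsThrough i p B.obj)) := by
  sorry

end E

/-! ## F : algebra -/

section F

/-- Node F1. -/
theorem isGeneric_good [IsAlgClosed k] (hd : 1 ≤ d) (hdn : d + 3 ≤ n) :
    LefPen.IsGeneric k {G : LefPen.Form n k d | Good G} := by
  sorry

variable (G : LefPen.Form n k d)

/-- Node F2. -/
theorem flat_toR [IsAlgClosed k] (hG : Good G) (hd : 1 ≤ d) (hdn : d + 3 ≤ n) (i j : Fin (n + 1)) (hij : i ≠ j) :
    (toR G i j).toRingHom.Flat := by
  sorry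

/-- Node F3. -/
theorem ringKrullDim_FRing [IsAlgClosed k] (hG : Good G) (hd : 1 ≤ d) (hdn : d + 3 ≤ n) (i j : Fin (n + 1))
    (hij : i ≠ j) (v : Fin (n + 1) → k) (hv : v i = 1) (h0 : MvPolynomial.eval v G.1 = 0)
    (hne : Nontrivial (FRing G i j v)) : ringKrullDim (FRing G i j v) = ((n - d - 1 : ℕ) : WithBot ℕ∞) := by
  sorry

/-- Node F4. -/
theorem exists_nontrivial_FRing [IsAlgClosed k] (hd : 1 ≤ d) (hdn : d + 3 ≤ n) (i : Fin (n + 1))
    (v : Fin (n + 1) → k) (hv : v i = 1) (h0 : MvPolynomial.eval v G.1 = 0) :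
    ∃ j : Fin (n + 1), i ≠ j ∧ Nontrivial (FRing G i j v) := by
  sorry

/-- Node F5. -/
theorem isPullback_FRing (i j : Fin (n + 1)) (v : Fin (n + 1) → k) (hv : v i = 1)
    (h0 : MvPolynomial.eval v G.1 = 0) :
    IsPullback (Spec.map (CommRingCat.ofHom (toF G i j v hv).toRingHom))
      (Spec.map (CommRingCat.ofHom (algebraMap k (FRing G i j v))))
      (Spec.map (CommRingCat.ofHom (toR G i j).toRingHom))
      (Spec.map (CommRingCat.ofHom (evA G i v hv h0).toRingHom)) := by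
  sorry

end F

end K188.PlanL
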