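import Groth.Agent.Fano.K188.OnHyp
import Groth.Agent.Fano.K188.LineRing

/-!
# Maps to the spectra of the coordinate rings

* `exists_toQuot`, `toQuot_ext`: the universal property of `Spec (k[X] / I)`;
* `exists_toA`, `exists_toR`, `exists_toF`: the universal properties of the three charts.
-/

set_option autoImplicit false
universe u
open CategoryTheory CategoryTheory.Limits AlgebraicGeometry TopologicalSpace

namespace K188.QuotSpec

open K188.LineDef K188.LineRing K188.OnHypL

variable {T T' : Scheme.{u}} {k : Type u} [Field k] {n d : ℕ} {σ : Type}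

/-- The spectrum of a quotient of a polynomial ring. -/
noncomputable abbrev QS (I : Ideal (MvPolynomial σ k)) : Scheme.{u} := Spec (CommRingCat.of (MvPolynomial σ k ⧸ I))

/-- The structure morphism. -/
noncomputable def qs (I : Ideal (MvPolynomial σ k)) : QS I ⟶ Spec (CommRingCat.of k) :=
  Spec.map (CommRingCat.ofHom (algebraMap k (MvPolynomial σ k ⧸ I)))

/-- The coordinates. -/
noncomputable def qx (I : Ideal (MvPolynomial σ k)) (a : σ) : Γ(QS I, ⊤) :=
  (Scheme.ΓSpecIso (CommRingCat.of (MvPolynomial σ k ⧸ I))).inv.hom (Ideal.Quotient.mk I (MvPolynomial.X a))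

theorem kmap_qs (I : Ideal (MvPolynomial σ k)) : kmap (qs I) =
    (Scheme.ΓSpecIso (CommRingCat.of (MvPolynomial σ k ⧸ I))).inv.hom.comp (algebraMap k (MvPolynomial σ k ⧸ I)) := by
  ext a
  have h1 := Scheme.ΓSpecIso_inv_naturality (CommRingCat.ofHom (algebraMap k (MvPolynomial σ k ⧸ I)))
  exact congr(($h1).hom a).symm

/-- The ring homomorphism of a morphism to an affine scheme. -/
noncomputable def rh {R : Type u} [CommRing R] (g : T ⟶ Spec (CommRingCat.of R)) : R →+* Γ(T, ⊤) :=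
  g.appTop.hom.comp (Scheme.ΓSpecIso (CommRingCat.of R)).inv.hom

theorem ext_of_rh {R : Type u} [CommRing R] {g g' : T ⟶ Spec (CommRingCat.of R)} (h : rh g = rh g') : g = g' :=
  ext_to_Spec (CommRingCat.hom_ext h)

/-- The morphism of a ring homomorphism. -/
noncomputable def ofRh {R : Type u} [CommRing R] (φ : R →+* Γ(T, ⊤)) : T ⟶ Spec (CommRingCat.of R) :=
  T.toSpecΓ ≫ Spec.map (CommRingCat.ofHom φ)

theorem rh_ofRh {R : Type u} [CommRing R] (φ : R →+* Γ(T, ⊤)) : rh (ofRh φ) = φ := by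
  have h1 : (Scheme.ΓSpecIso (CommRingCat.of R)).inv ≫ (ofRh φ).appTop = CommRingCat.ofHom φ := by
    rw [ofRh, Scheme.Hom.comp_appTop, Scheme.toSpecΓ_appTop, ← Category.assoc, ← Scheme.ΓSpecIso_inv_naturality,
      Category.assoc, Iso.inv_hom_id, Category.comp_id]
  exact congrArg CommRingCat.Hom.hom h1

theorem rh_comp {R : Type u} [CommRing R] (f : T' ⟶ T) (g : T ⟶ Spec (CommRingCat.of R)) :
    rh (f ≫ g) = f.appTop.hom.comp (rh g) := by
  rw [rh, Scheme.Hom.comp_appTop]
  rfl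

theorem rh_comp_map {R R' : Type u} [CommRing R] [CommRing R'] (g : T ⟶ Spec (CommRingCat.of R')) (φ : R →+* R') :
    rh (g ≫ Spec.map (CommRingCat.ofHom φ)) = (rh g).comp φ := by
  have h1 := Scheme.ΓSpecIso_inv_naturality (CommRingCat.ofHom φ)
  ext a
  have h2 := congr(($h1).hom a)
  rw [rh_comp]
  change g.appTop.hom _ = g.appTop.hom _
  congr 1
  exact h2.symm

theorem toQuot_ext {I : Ideal (MvPolynomial σ k)} {g g' : T ⟶ QS I} (h : g ≫ qs I = g' ≫ qs I)
    (h' : ∀ a, g.appTop (qx I a) = g'.appTop (qx I a)) : g = g' := by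
  refine ext_of_rh (Ideal.Quotient.ringHom_ext (MvPolynomial.ringHom_ext (fun a => ?_) (fun a => h' a)))
  have h1 := congrArg rh h
  rw [qs, rh_comp_map, rh_comp_map] at h1
  exact congr($h1 a)

theorem exists_toQuot (I : Ideal (MvPolynomial σ k)) (q : T ⟶ Spec (CommRingCat.of k)) (x : σ → Γ(T, ⊤))
    (h : ∀ p ∈ I, MvPolynomial.eval₂ (kmap q) x p = 0) :
    ∃ g : T ⟶ QS I, g ≫ qs I = q ∧ ∀ a, g.appTop (qx I a) = x a := by
  refine ⟨ofRh (Ideal.Quotient.lift I (MvPolynomial.eval₂Hom (kmap q) x) h), ?_, fun a => ?_⟩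
  · refine ext_of_rh ?_
    rw [qs, rh_comp_map, rh_ofRh]
    ext a
    change MvPolynomial.eval₂ (kmap q) x (MvPolynomial.C a) = _
    rw [MvPolynomial.eval₂_C]
    rfl
  · change rh (ofRh _) (Ideal.Quotient.mk I (MvPolynomial.X a)) = x a
    rw [rh_ofRh]
    change MvPolynomial.eval₂ (kmap q) x (MvPolynomial.X a) = _
    rw [MvPolynomial.eval₂_X]

/-- The relations hold for the coordinates. -/
theorem eval₂_qx {I : Ideal (MvPolynomial σ k)} {p : MvPolynomial σ k} (hp : p ∈ I) :
    MvPolynomial.eval₂ (kmap (qs I)) (qx I) p = 0 := by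
  have h1 : MvPolynomial.eval₂ (kmap (qs I)) (qx I) p =
      (Scheme.ΓSpecIso (CommRingCat.of (MvPolynomial σ k ⧸ I))).inv.hom (Ideal.Quotient.mk I p) := by
    have h2 : MvPolynomial.eval₂Hom (kmap (qs I)) (qx I) =
        (Scheme.ΓSpecIso (CommRingCat.of (MvPolynomial σ k ⧸ I))).inv.hom.comp (Ideal.Quotient.mk I) := by
      refine MvPolynomial.ringHom_ext (fun a => ?_) (fun a => ?_)
      · rw [kmap_qs]
        simp
        rfl
      · simp [qx]
    exact congr($h2 p)
  rw [h1, Ideal.Quotient.eq_zero_iff_mem.2 hp, map_zero]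

section R

variable {G : LefPen.Form n k d} {i j : Fin (n + 1)}

/-- The coefficients of the restriction of a form to the universal line. -/
theorem eval₂_coeff {q : T ⟶ Spec (CommRingCat.of k)} {σ : Type} (x : σ → Γ(T, ⊤)) (v c : Fin (n + 1) → MvPolynomial σ k)
    (e : Fin 2 →₀ ℕ) : MvPolynomial.eval₂ (kmap q) x (MvPolynomial.coeff e (restr MvPolynomial.C G v c)) =
      MvPolynomial.coeff e (restr (kmap q) G (fun a => MvPolynomial.eval₂ (kmap q) x (v a))
        (fun a => MvPolynomial.eval₂ (kmap q) x (c a))) := by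
  have h1 := LineRing.map_restr MvPolynomial.C (MvPolynomial.eval₂Hom (kmap q) x) G v c
  have h2 : (MvPolynomial.eval₂Hom (kmap q) x).comp MvPolynomial.C = kmap q := by
    ext a
    exact MvPolynomial.eval₂_C _ _ _
  rw [h2] at h1
  have h3 := congrArg (MvPolynomial.coeff e) h1
  rw [MvPolynomial.coeff_map] at h3
  exact h3

theorem rel_R {q : T ⟶ Spec (CommRingCat.of k)} {v c : Fin (n + 1) → Γ(T, ⊤)} (hv : v i = 1) (hc : c i = 0)
    (hcj : c j = 1) (hG : OnHyp q G v c) : ∀ p ∈ RIdeal G i j, MvPolynomial.eval₂ (kmap q) (Sum.elim v c) p = 0 := by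
  have h1 : RIdeal G i j ≤ RingHom.ker (MvPolynomial.eval₂Hom (kmap q) (Sum.elim v c)) := by
    refine Ideal.span_le.2 ?_
    rintro p ((rfl | rfl | hp) | ⟨e, rfl⟩)
    · change MvPolynomial.eval₂Hom (kmap q) (Sum.elim v c) (vv k n i - 1) = 0
      rw [map_sub, map_one, MvPolynomial.coe_eval₂Hom, MvPolynomial.eval₂_X, Sum.elim_inl, hv, sub_self]
    · change MvPolynomial.eval₂ (kmap q) (Sum.elim v c) (cc k n i) = 0
      rw [MvPolynomial.eval₂_X, Sum.elim_inr, hc]
    · rw [Set.mem_singleton_iff] at hp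
      subst hp
      change MvPolynomial.eval₂Hom (kmap q) (Sum.elim v c) (cc k n j - 1) = 0
      rw [map_sub, map_one, MvPolynomial.coe_eval₂Hom, MvPolynomial.eval₂_X, Sum.elim_inr, hcj, sub_self]
    · change MvPolynomial.eval₂ (kmap q) (Sum.elim v c) _ = 0
      rw [eval₂_coeff]
      simp only [MvPolynomial.eval₂_X, Sum.elim_inl, Sum.elim_inr]
      rw [show restr (kmap q) G (fun a => v a) (fun a => c a) = 0 from hG, MvPolynomial.coeff_zero]
  exact fun p hp => h1 hp

/-- The universal point. -/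
noncomputable def uv (G : LefPen.Form n k d) (i j : Fin (n + 1)) (a : Fin (n + 1)) : Γ(QS (RIdeal G i j), ⊤) :=
  qx (RIdeal G i j) (Sum.inl a)

/-- The universal direction. -/
noncomputable def uc (G : LefPen.Form n k d) (i j : Fin (n + 1)) (a : Fin (n + 1)) : Γ(QS (RIdeal G i j), ⊤) :=
  qx (RIdeal G i j) (Sum.inr a)

theorem uv_self : uv G i j i = 1 := by
  have h1 := eval₂_qx (I := RIdeal G i j) (p := vv k n i - 1) (Ideal.subset_span (Or.inl (by simp)))
  rw [← MvPolynomial.coe_eval₂Hom, map_sub, map_one, MvPolynomial.coe_eval₂Hom, MvPolynomial.eval₂_X, sub_eq_zero] at h1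
  exact h1

theorem uc_self : uc G i j i = 0 := by
  have h1 := eval₂_qx (I := RIdeal G i j) (p := cc k n i) (Ideal.subset_span (Or.inl (by simp)))
  rw [MvPolynomial.eval₂_X] at h1
  exact h1

theorem uc_one : uc G i j j = 1 := by
  have h1 := eval₂_qx (I := RIdeal G i j) (p := cc k n j - 1) (Ideal.subset_span (Or.inl (by simp)))
  rw [← MvPolynomial.coe_eval₂Hom, map_sub, map_one, MvPolynomial.coe_eval₂Hom, MvPolynomial.eval₂_X, sub_eq_zero] at h1
  exact h1

theorem onHyp_u : OnHyp (qs (RIdeal G i j)) G (uv G i j) (uc G i j) := by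
  ext e
  rw [MvPolynomial.coeff_zero]
  have h1 := eval₂_qx (I := RIdeal G i j) (p := MvPolynomial.coeff e (restr MvPolynomial.C G (vv k n) (cc k n)))
    (Ideal.subset_span (Or.inr ⟨e, rfl⟩))
  rw [eval₂_coeff] at h1
  simp only [MvPolynomial.eval₂_X] at h1
  exact h1

theorem exists_toR {q : T ⟶ Spec (CommRingCat.of k)} {v c : Fin (n + 1) → Γ(T, ⊤)} (hv : v i = 1) (hc : c i = 0)
    (hcj : c j = 1) (hG : OnHyp q G v c) : ∃ g : T ⟶ QS (RIdeal G i j), g ≫ qs _ = q ∧
      (fun a => g.appTop (uv G i j a)) = v ∧ (fun a => g.appTop (uc G i j a)) = c := by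
  obtain ⟨g, hg, hg'⟩ := exists_toQuot (RIdeal G i j) q (Sum.elim v c) (rel_R hv hc hcj hG)
  exact ⟨g, hg, funext fun a => hg' (Sum.inl a), funext fun a => hg' (Sum.inr a)⟩

theorem toR_ext {g g' : T ⟶ QS (RIdeal G i j)} (h : g ≫ qs _ = g' ≫ qs _)
    (hv : (fun a => g.appTop (uv G i j a)) = (fun a => g'.appTop (uv G i j a)))
    (hc : (fun a => g.appTop (uc G i j a)) = (fun a => g'.appTop (uc G i j a))) : g = g' := by
  refine toQuot_ext h ?_
  rintro (a | a)
  · exact congrFun hv a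
  · exact congrFun hc a

end R

section A

variable {G : LefPen.Form n k d} {i j : Fin (n + 1)}

theorem rel_A {q : T ⟶ Spec (CommRingCat.of k)} {v : Fin (n + 1) → Γ(T, ⊤)} (hv : v i = 1)
    (hG : MvPolynomial.eval₂ (kmap q) v G.1 = 0) : ∀ p ∈ AIdeal G i, MvPolynomial.eval₂ (kmap q) v p = 0 := by
  have h1 : AIdeal G i ≤ RingHom.ker (MvPolynomial.eval₂Hom (kmap q) v) := by
    refine Ideal.span_le.2 ?_
    rintro p (rfl | hp)
    · change MvPolynomial.eval₂Hom (kmap q) v (MvPolynomial.X i - 1) = 0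
      rw [map_sub, map_one, MvPolynomial.coe_eval₂Hom, MvPolynomial.eval₂_X, hv, sub_self]
    · rw [Set.mem_singleton_iff] at hp
      subst hp
      exact hG
  exact fun p hp => h1 hp

/-- The universal point of the chart of the hypersurface. -/
noncomputable def av (G : LefPen.Form n k d) (i : Fin (n + 1)) (a : Fin (n + 1)) : Γ(QS (AIdeal G i), ⊤) :=
  qx (AIdeal G i) a

theorem av_self : av G i i = 1 := by
  have h1 := eval₂_qx (I := AIdeal G i) (p := MvPolynomial.X i - 1) (Ideal.subset_span (by simp))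
  rw [← MvPolynomial.coe_eval₂Hom, map_sub, map_one, MvPolynomial.coe_eval₂Hom, MvPolynomial.eval₂_X, sub_eq_zero] at h1
  exact h1

theorem eval₂_av : MvPolynomial.eval₂ (kmap (qs (AIdeal G i))) (av G i) G.1 = 0 :=
  eval₂_qx (I := AIdeal G i) (p := G.1) (Ideal.subset_span (by simp))

/-- The projection in coordinates. -/
noncomputable def sA (G : LefPen.Form n k d) (i j : Fin (n + 1)) : QS (RIdeal G i j) ⟶ QS (AIdeal G i) :=
  Spec.map (CommRingCat.ofHom (toR G i j).toRingHom)

theorem sA_qs : sA G i j ≫ qs (AIdeal G i) = qs (RIdeal G i j) := by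
  rw [sA, qs, qs, ← Spec.map_comp, ← CommRingCat.ofHom_comp]
  congr 2
  ext a
  exact (toR G i j).commutes a

theorem sA_av (a : Fin (n + 1)) : (sA G i j).appTop (av G i a) = uv G i j a := by
  have h1 := Scheme.ΓSpecIso_inv_naturality (CommRingCat.ofHom (toR G i j).toRingHom)
  have h2 := congr(($h1).hom (Ideal.Quotient.mk (AIdeal G i) (MvPolynomial.X a)))
  refine h2.symm.trans ?_
  change (Scheme.ΓSpecIso (CommRingCat.of (RRing G i j))).inv.hom (toR G i j (Ideal.Quotient.mk (AIdeal G i) (MvPolynomial.X a))) = _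
  rw [uv, qx]
  congr 1
  change Ideal.Quotient.mk _ (MvPolynomial.rename Sum.inl (MvPolynomial.X a)) = _
  rw [MvPolynomial.rename_X]

end A

section F

variable {G : LefPen.Form n k d} {i j : Fin (n + 1)} {w : Fin (n + 1) → k}

theorem rel_F {q : T ⟶ Spec (CommRingCat.of k)} {c : Fin (n + 1) → Γ(T, ⊤)} (hc : c i = 0)
    (hcj : c j = 1) (hG : OnHyp q G (fun a => kmap q (w a)) c) :
    ∀ p ∈ FIdeal G i j w, MvPolynomial.eval₂ (kmap q) c p = 0 := by
  have h1 : FIdeal G i j w ≤ RingHom.ker (MvPolynomial.eval₂Hom (kmap q) c) := by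
    refine Ideal.span_le.2 ?_
    rintro p ((rfl | hp) | ⟨e, rfl⟩)
    · change MvPolynomial.eval₂ (kmap q) c (MvPolynomial.X i) = 0
      rw [MvPolynomial.eval₂_X, hc]
    · rw [Set.mem_singleton_iff] at hp
      subst hp
      change MvPolynomial.eval₂Hom (kmap q) c (MvPolynomial.X j - 1) = 0
      rw [map_sub, map_one, MvPolynomial.coe_eval₂Hom, MvPolynomial.eval₂_X, hcj, sub_self]
    · change MvPolynomial.eval₂ (kmap q) c _ = 0
      rw [eval₂_coeff]
      simp only [MvPolynomial.eval₂_X, MvPolynomial.eval₂_C]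
      rw [show restr (kmap q) G (fun a => kmap q (w a)) (fun a => c a) = 0 from hG, MvPolynomial.coeff_zero]
  exact fun p hp => h1 hp

/-- The universal direction at `w`. -/
noncomputable def fc (G : LefPen.Form n k d) (i j : Fin (n + 1)) (w : Fin (n + 1) → k) (a : Fin (n + 1)) :
    Γ(QS (FIdeal G i j w), ⊤) := qx (FIdeal G i j w) a

theorem fc_self : fc G i j w i = 0 := by
  have h1 := eval₂_qx (I := FIdeal G i j w) (p := MvPolynomial.X i) (Ideal.subset_span (Or.inl (by simp)))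
  rw [MvPolynomial.eval₂_X] at h1
  exact h1

theorem fc_one : fc G i j w j = 1 := by
  have h1 := eval₂_qx (I := FIdeal G i j w) (p := MvPolynomial.X j - 1) (Ideal.subset_span (Or.inl (by simp)))
  rw [← MvPolynomial.coe_eval₂Hom, map_sub, map_one, MvPolynomial.coe_eval₂Hom, MvPolynomial.eval₂_X, sub_eq_zero] at h1
  exact h1

theorem onHyp_f : OnHyp (qs (FIdeal G i j w)) G (fun a => kmap (qs (FIdeal G i j w)) (w a)) (fc G i j w) := by
  ext e
  rw [MvPolynomial.coeff_zero]
  have h1 := eval₂_qx (I := FIdeal G i j w)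
    (p := MvPolynomial.coeff e (restr MvPolynomial.C G (fun a => MvPolynomial.C (w a)) MvPolynomial.X))
    (Ideal.subset_span (Or.inr ⟨e, rfl⟩))
  rw [eval₂_coeff] at h1
  simp only [MvPolynomial.eval₂_X, MvPolynomial.eval₂_C] at h1
  exact h1

theorem exists_toF {q : T ⟶ Spec (CommRingCat.of k)} {c : Fin (n + 1) → Γ(T, ⊤)} (hc : c i = 0)
    (hcj : c j = 1) (hG : OnHyp q G (fun a => kmap q (w a)) c) : ∃ g : T ⟶ QS (FIdeal G i j w), g ≫ qs _ = q ∧
      (fun a => g.appTop (fc G i j w a)) = c := by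
  obtain ⟨g, hg, hg'⟩ := exists_toQuot (FIdeal G i j w) q c (rel_F hc hcj hG)
  exact ⟨g, hg, funext fun a => hg' a⟩

theorem toF_ext {g g' : T ⟶ QS (FIdeal G i j w)} (h : g ≫ qs _ = g' ≫ qs _)
    (hc : (fun a => g.appTop (fc G i j w a)) = (fun a => g'.appTop (fc G i j w a))) : g = g' :=
  toQuot_ext h fun a => congrFun hc a

theorem kmap_appTop {q : T ⟶ Spec (CommRingCat.of k)} (g : T' ⟶ T) (a : k) :
    g.appTop (kmap q a) = kmap (g ≫ q) a := by
  rw [kmap_comp]
  rfl

end F

end K188.QuotSpec
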