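import Groth.Agent.Fano.K188.UChart

/-!
# The family of lines over a disjoint union of charts

* `exists_sig_map`: the map from the projective line over the disjoint union;
* `stab_sig`: stability;
* `sigArr`: the arrows from the charts.
-/

set_option autoImplicit false
universe u
open CategoryTheory CategoryTheory.Limits AlgebraicGeometry TopologicalSpace

namespace K188.Sig

open K390.PnSec Groth.Agent.Fdesc.LocGen Groth.Agent.Dix.ProjProper
open Groth.Agent.Ega2.H295.PnUniq Groth.Agent.Ega2.H295.PnCoord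
open K188.LineDef K188.LineRing K188.MapP1 K188.HypFac K188.LinFun K188.OnHypL K188.LinP1 K188.FamIso W4swstmapratcurves
open K188.QuotSpec K188.Line K188.StChart K188.UChart K594.Cover

attribute [local instance] MvPolynomial.gradedAlgebra

variable {X Y T T' : Scheme.{u}} {k : Type u} [Field k] {n d : ℕ}

/-- The pullback of linear sections along a map with given coordinates. -/
theorem exists_iso_lsec {ψ : Y ⟶ P1 T} {M : Y.Modules} {x : Fin (1 + 1) → Γ(M, ⊤)}
    (hψ : GivenBy (ψ ≫ toZ 1 T) M x) : ∃ e : (Scheme.Modules.pullback ψ).obj (N T) ≅ M,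
      ∀ (v c : Fin (n + 1) → Γ(T, ⊤)) (a : Fin (n + 1)), e.hom.app ⊤ (pullTop ψ (lsec v c a)) =
        ((ψ ≫ pr T).appTop (v a)) • x 0 + ((ψ ≫ pr T).appTop (c a)) • x 1 := by
  obtain ⟨e, he⟩ := ((GivenBy.refl (toZ 1 T)).comp ψ).exists_iso hψ
  refine ⟨e, fun v c a => ?_⟩
  have h3 : ∀ (g : Γ(P1 T, ⊤)) (s : Γ(N T, ⊤)), pullTop ψ (g • s) = (ψ.appTop g) • pullTop ψ s :=
    fun g s => pullSec_smul ψ g s
  have h4 : pullTop ψ (lsec v c a) = (ψ.appTop ((pr T).appTop (v a))) • pullTop ψ (crd 1 T 0) +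
      (ψ.appTop ((pr T).appTop (c a))) • pullTop ψ (crd 1 T 1) := by
    rw [lsec, ← h3, ← h3]
    exact pullSec_add ψ _ _
  rw [h4, map_add]
  have h5 : ∀ (g : Γ(Y, ⊤)) (s : Γ((Scheme.Modules.pullback ψ).obj (N T), ⊤)),
    e.hom.app ⊤ (g • s) = g • e.hom.app ⊤ s := fun g s => Scheme.Modules.Hom.app_smul e.hom g s
  rw [h5, h5]
  have h6 : e.hom.app ⊤ (pullTop ψ (crd 1 T 0)) = x 0 := he 0
  have h7 : e.hom.app ⊤ (pullTop ψ (crd 1 T 1)) = x 1 := he 1
  rw [h6, h7, Scheme.Hom.comp_appTop]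
  rfl

theorem preimage_gl (g : T' ⟶ T) (v c : Fin (n + 1) → Γ(T, ⊤)) (a : Fin (n + 1)) :
    pmap g ⁻¹ᵁ gl (lsec v c a) = gl (lsec (fun a => g.appTop (v a)) (fun a => g.appTop (c a)) a) := by
  have h0 : GivenBy (pmap g ≫ toZ 1 T) (N T') (crd 1 T') := by
    rw [pmap_toZ]
    exact GivenBy.refl _
  obtain ⟨e, he⟩ := exists_iso_lsec (n := n) h0
  have h1 : gl (pullTop (pmap g) (lsec v c a)) = pmap g ⁻¹ᵁ gl (lsec v c a) :=
    genLocus_pullTop (pmap g) isInvertible_N _
  rw [← h1]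
  have h2 : gl (e.hom.app ⊤ (pullTop (pmap g) (lsec v c a))) = gl (pullTop (pmap g) (lsec v c a)) :=
    genLocus_app e _
  rw [← h2, he]
  congr 1
  rw [pmap_pr, Scheme.Hom.comp_appTop]
  rfl

section Sig

variable {S : Scheme.{u}} {I : Type u} (V : I → Over S)

/-- Functions on a disjoint union. -/
theorem exists_glue (V : I → Over (SS k)) (x : ∀ p, Γ((V p).left, ⊤)) :
    ∃ s : Γ((sig V).left, ⊤), ∀ p, (sigι V p).left.appTop s = x p := by
  choose g hg hg' using fun p => exists_toQuot (⊥ : Ideal (MvPolynomial Unit k)) (V p).hom (fun _ => x p)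
    (by
      intro a ha
      rw [Ideal.mem_bot.1 ha, MvPolynomial.eval₂_zero])
  refine ⟨(Sigma.desc g : (sig V).left ⟶ _).appTop (qx ⊥ ()), fun p => ?_⟩
  have h1 : (sigι V p).left ≫ Sigma.desc g = g p := Sigma.ι_desc _ _
  have h2 := congr($(congrArg Scheme.Hom.appTop h1) (qx ⊥ ()))
  rw [← hg' p (), ← h2, Scheme.Hom.comp_appTop]
  rfl

/-- Points over fields lift to the components. -/
theorem exists_lift_sig {Ω : Type u} [Field Ω] (t : Spec (CommRingCat.of Ω) ⟶ (sig V).left) :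
    ∃ (p : I) (t' : Spec (CommRingCat.of Ω) ⟶ (V p).left), t' ≫ (sigι V p).left = t := by
  obtain ⟨p, y, hy⟩ := sig_surj V (t (IsLocalRing.closedPoint Ω))
  have : IsOpenImmersion (sigι V p).left := inferInstanceAs (IsOpenImmersion (Sigma.ι (fun i => (V i).left) p))
  refine ⟨p, IsOpenImmersion.lift (sigι V p).left t ?_, IsOpenImmersion.lift_fac _ _ _⟩
  rintro _ ⟨z, rfl⟩
  rw [Subsingleton.elim z (IsLocalRing.closedPoint Ω)]
  exact ⟨y, hy⟩

end Sig

/-- Stability on the components. -/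
theorem stab_of_lift {m : P1 T ⟶ Y} {L : Y.Modules} {I : Type u} (V : I → Scheme.{u}) (g : ∀ p, V p ⟶ T)
    (hg : ∀ (Ω : Type u) [Field Ω] (t : Spec (CommRingCat.of Ω) ⟶ T), ∃ (p : I) (t' : Spec (CommRingCat.of Ω) ⟶ V p),
      t' ≫ g p = t)
    (h : ∀ p, StMap.IsStableMapFam (pr (V p)) (fun _ : Fin 1 => pt (V p)) (fun _ => pt_pr) (pmap (g p) ≫ m) 0 ∧
      StMap.IsFibDeg (pr (V p)) (pmap (g p) ≫ m) L 1) :
    StMap.IsStableMapFam (pr T) (fun _ : Fin 1 => pt T) (fun _ => pt_pr) m 0 ∧ StMap.IsFibDeg (pr T) m L 1 := by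
  have hsm : Smooth (pr T) := smooth_pr T
  have key : ∀ (Ω : Type u) [Field Ω] [IsAlgClosed Ω] (t : Spec (CommRingCat.of Ω) ⟶ T) (Xt : Scheme.{u}) (i : Xt ⟶ P1 T)
      (q : Xt ⟶ Spec (CommRingCat.of Ω)) (_ : IsPullback i q (pr T) t), ∃ (p : I) (t' : Spec (CommRingCat.of Ω) ⟶ V p)
      (i' : Xt ⟶ P1 (V p)), i' ≫ pmap (g p) = i ∧ t' ≫ g p = t ∧ IsPullback i' q (pr (V p)) t' := by
    intro Ω _ _ t Xt i q hP
    obtain ⟨p, t', ht'⟩ := hg Ω t
    have h1 := isPullback_pmap (g p)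
    let i' : Xt ⟶ P1 (V p) := h1.lift i (q ≫ t') (by rw [hP.w, Category.assoc, ht'])
    have e1 : i' ≫ pmap (g p) = i := h1.lift_fst _ _ _
    have e2 : i' ≫ pr (V p) = q ≫ t' := h1.lift_snd _ _ _
    refine ⟨p, t', i', e1, ht', ?_⟩
    refine IsPullback.of_right (h₁₂ := pmap (g p)) (h₂₂ := g p) ?_ e2 h1
    rw [e1, ht']
    exact hP
  refine ⟨⟨inferInstance, isProper_toBase 1 T, inferInstance, fun Ω _ _ t Xt i q hP => ?_⟩, fun Ω _ _ t Xt i q hP => ?_⟩
  · obtain ⟨p, t', i', rfl, rfl, hP'⟩ := key Ω t Xt i q hP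
    have h1 := (h p).1.2.2.2 Ω t' Xt i' q hP'
    have h2 := K655.MapPre.markedPt_paste (σ := fun _ : Fin 1 => pt T) (hσ := fun _ => pt_pr)
      (σ' := fun _ : Fin 1 => pt (V p)) (hσ' := fun _ => pt_pr) (isPullback_pmap (g p)) (fun _ => pt_pmap _) hP'
    rw [h2] at h1
    rw [Category.assoc]
    exact h1
  · obtain ⟨p, t', i', rfl, rfl, hP'⟩ := key Ω t Xt i q hP
    rw [Category.assoc]
    exact (h p).2 Ω t' Xt i' q hP'

section Map

variable {G : LefPen.Form n k d} {I : Type u} {V : I → Over (SS k)} {ii jj : I → Fin (n + 1)}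
  (D : ∀ p, Dat G (ii p) (jj p) (V p))

/-- The line over the disjoint union. -/
theorem exists_sig_map : ∃ (m : P1 (sig V).left ⟶ (hypOver G).left) (v c : Fin (n + 1) → Γ((sig V).left, ⊤)),
    m ≫ (hypOver G).hom = pr (sig V).left ≫ (sig V).hom ∧ GivenBy (m ≫ inc G) (N _) (lsec v c) ∧
      ∀ p, (fun a => (sigι V p).left.appTop (v a)) = (D p).v ∧ (fun a => (sigι V p).left.appTop (c a)) = (D p).c := by
  choose v hv using fun a : Fin (n + 1) => exists_glue V (fun p => (D p).v a)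
  choose c hc using fun a : Fin (n + 1) => exists_glue V (fun p => (D p).c a)
  have hv' : ∀ p, (fun a => (sigι V p).left.appTop (v a)) = (D p).v := fun p => funext fun a => hv a p
  have hc' : ∀ p, (fun a => (sigι V p).left.appTop (c a)) = (D p).c := fun p => funext fun a => hc a p
  obtain ⟨r, hr, hr'⟩ := exists_givenBy (R := k) (pr (sig V).left ≫ (sig V).hom) (M := N _) (lsec v c) (by
    rw [eq_top_iff]
    intro x _
    rw [Opens.mem_iSup]
    obtain ⟨p, y, hy⟩ := sig_surj V (pr (sig V).left x)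
    obtain ⟨x', rfl, -⟩ := Line.exists_preimage (isPullback_pmap (sigι V p).left) x y hy.symm
    have h1 : x' ∈ gl (lsec (D p).v (D p).c (ii p)) ∨ x' ∈ gl (lsec (D p).v (D p).c (jj p)) := gl_of_det (by
      rw [(D p).hv, (D p).hc, (D p).hcj]
      simp) x'
    have h2 : ∀ a, x' ∈ gl (lsec (D p).v (D p).c a) → pmap (sigι V p).left x' ∈ gl (lsec v c a) := fun a ha => by
      have h3 := preimage_gl (sigι V p).left v c a
      rw [hv', hc'] at h3
      rw [← h3] at ha
      exact ha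
    rcases h1 with h1 | h1
    · exact ⟨_, h2 _ h1⟩
    · exact ⟨_, h2 _ h1⟩)
  have hG : OnHyp (sig V).hom G v c := by
    refine onHyp_of_cover (sigmaOpenCover fun i => (V i).left) fun p => ?_
    have h1 := (D p).hG
    rw [← hv', ← hc'] at h1
    have h2 : (sigmaOpenCover fun i => (V i).left).f p ≫ (sig V).hom = (V p).hom := Over.w (sigι V p)
    rw [h2]
    exact h1
  obtain ⟨m, hm⟩ := exists_lift hr hr' G hG
  refine ⟨m, v, c, ?_, ?_, fun p => ⟨hv' p, hc' p⟩⟩
  · change m ≫ inc G ≫ CohB1.ProjSpace.toSpec n k = _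
    rw [← Category.assoc]
    exact (congrArg (· ≫ CohB1.ProjSpace.toSpec n k) hm).trans hr
  · exact (show m ≫ inc G = r from hm) ▸ hr'

/-- The map over the disjoint union. -/
noncomputable def sm : P1 (sig V).left ⟶ (hypOver G).left := (exists_sig_map D).choose

theorem sm_over : sm D ≫ (hypOver G).hom = pr (sig V).left ≫ (sig V).hom :=
  (exists_sig_map D).choose_spec.choose_spec.choose_spec.1

theorem pmap_sm (p : I) : pmap (sigι V p).left ≫ sm D = dm (D p) := by
  obtain ⟨v, c, h1, h2, h3⟩ := (exists_sig_map D).choose_spec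
  have : Mono (inc G) := inferInstance
  rw [← cancel_mono (inc G), Category.assoc]
  have h4 := lsec_pmap (sigι V p).left h2
  rw [(h3 p).1, (h3 p).2] at h4
  refine h4.unique (dm_given (D p)) ?_
  have h5 : sm D ≫ inc G ≫ CohB1.ProjSpace.toSpec n k = pr (sig V).left ≫ (sig V).hom := h1
  have h6 : dm (D p) ≫ inc G ≫ CohB1.ProjSpace.toSpec n k = pr (V p).left ≫ (V p).hom := dm_over (D p)
  have h7 : pmap (sigι V p).left ≫ sm D ≫ inc G ≫ CohB1.ProjSpace.toSpec n k =
      dm (D p) ≫ inc G ≫ CohB1.ProjSpace.toSpec n k := by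
    rw [h5, h6, pmap_pr_assoc, Over.w (sigι V p)]
  rw [← Category.assoc, ← Category.assoc] at h7
  refine Eq.trans ?_ (h7.trans ?_)
  · rw [Category.assoc, Category.assoc]
    rfl
  · rw [Category.assoc]

/-- The family over the disjoint union. -/
noncomputable def sF : StMap.MapFamObj (SS k) 1 (hypOver G) := std (sig V) (sm D) (sm_over D)

theorem stab_sF (hA : StdStable G) : Stab (sF D) := by
  refine stab_of_lift (m := sm D) (L := hypO1 G) (fun p => (V p).left) (fun p => (sigι V p).left)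
    (fun Ω _ t => exists_lift_sig V t) fun p => ?_
  rw [pmap_sm]
  exact stab_dF hA (D p)

/-- The arrows. -/
noncomputable def sArr (p : I) : dF (D p) ⟶ sF D where
  hom :=
    { base := sigι V p
      top := pmap (sigι V p).left
      cart := isPullback_pmap _
      w_sect := fun _ => pt_pmap _ }
  w_map := pmap_sm D p

theorem sArr_base (p : I) : (sArr D p).hom.base = sigι V p := rfl

end Map

end K188.Sig
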