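import Groth.Agent.IsoNat.K862.Span
import Groth.Agent.AlgSt.K737.Atlas
import Groth.Agent.VarietyB.DimTop
import Groth.Agent.CurvSt.K742.AtlasFam0

/-!
# Monomorphic open charts of a category fibred in groupoids

* `OpenChart x`: `x` over `U` receives at most one arrow from every object, and the locus of the base of an object `t`
  over which there is an arrow to `x` is open.
* `OpenChart.rep`: the functor of `x` is representable by (smooth) open immersions.
* `OpenChart.isOpenEmbedding`: the chart is an open embedding on points.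
* `dim_points`: dimension of the space of points.
-/

set_option autoImplicit false
set_option linter.unusedSectionVars false
set_option backward.isDefEq.respectTransparency false
set_option backward.isDefEq.respectTransparency.types false

universe u

open CategoryTheory CategoryTheory.Limits AlgebraicGeometry Opposite K862 K862.Fib K862.Yon

namespace K188.StChart

variable {S : Scheme.{u}} {𝒳 : AlgSt.Cat S}

/-- A monomorphic open chart. -/
structure OpenChart {U : Over S} (x : 𝒳.p.Fiber U) : Prop where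
  sub : ∀ z : 𝒳.obj, Subsingleton (z ⟶ x.1)
  op : ∀ {T : Over S} (t : 𝒳.p.Fiber T), ∃ W : T.left.Opens, ∀ {T' : Over S} (g : T' ⟶ T) (z : 𝒳.p.Fiber T')
    (b : z.1 ⟶ t.1), 𝒳.p.IsHomLift g b → (Nonempty (z.1 ⟶ x.1) ↔ ∀ s : T'.left, g.left s ∈ W)

variable [hp : FibCat.IsFibGrpd 𝒳.p]

theorem OpenChart.of_hom {U : Over S} {x y : 𝒳.p.Fiber U} (h : OpenChart x) (θ : x ⟶ y) : OpenChart y where
  sub z := ⟨fun a b => by
    have h1 : a ≫ (inv θ).1 = b ≫ (inv θ).1 := (h.sub z).elim _ _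
    have h2 : (inv θ).1 ≫ θ.1 = 𝟙 _ := by rw [← comp_val, IsIso.inv_hom_id, id_val]
    have h3 := congrArg (· ≫ θ.1) h1
    simpa only [Category.assoc, h2, Category.comp_id] using h3⟩
  op t := by
    obtain ⟨W, hW⟩ := h.op t
    refine ⟨W, fun g z b hb => ?_⟩
    rw [← hW g z b hb]
    exact ⟨fun ⟨a⟩ => ⟨a ≫ (inv θ).1⟩, fun ⟨a⟩ => ⟨a ≫ θ.1⟩⟩

section Rep

variable {U : Over S} {X : FibCat.overCat U ⥤ᵇ 𝒳}

/-- The open subscheme over which there is an arrow to the chart. -/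
noncomputable def opn {T : Over S} (W : T.left.Opens) : Over S := Over.mk (W.ι ≫ T.hom)

/-- The inclusion. -/
noncomputable def opnι {T : Over S} (W : T.left.Opens) : opn W ⟶ T := Over.homMk W.ι rfl

theorem range_subset {A B : Scheme.{u}} (W : B.Opens) (g : A ⟶ B) (hg : ∀ s : A, g s ∈ W) :
    Set.range g ⊆ Set.range W.ι := by
  rw [Scheme.Opens.range_ι]
  rintro _ ⟨s, rfl⟩
  exact hg s

/-- The lift. -/
noncomputable def opnLift {T T' : Over S} (W : T.left.Opens) (g : T' ⟶ T) (hg : ∀ s : T'.left, g.left s ∈ W) :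
    T' ⟶ opn W :=
  Over.homMk (IsOpenImmersion.lift W.ι g.left (range_subset W g.left hg)) (by
    change IsOpenImmersion.lift W.ι g.left _ ≫ W.ι ≫ T.hom = _
    rw [← Category.assoc, IsOpenImmersion.lift_fac]
    exact Over.w g)

theorem opnLift_ι {T T' : Over S} (W : T.left.Opens) (g : T' ⟶ T) (hg : ∀ s : T'.left, g.left s ∈ W) :
    opnLift W g hg ≫ opnι W = g := by
  apply Over.OverMorphism.ext
  exact IsOpenImmersion.lift_fac _ _ _

theorem opnι_mono {T T' : Over S} (W : T.left.Opens) {a b : T' ⟶ opn W} (h : a ≫ opnι W = b ≫ opnι W) : a = b := by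
  apply Over.OverMorphism.ext
  have h1 : a.left ≫ W.ι = b.left ≫ W.ι := congrArg (fun m => m.left) h
  exact (cancel_mono W.ι).1 h1

theorem exists_spanRep {x : 𝒳.p.Fiber U} (h : OpenChart x) {T : Over S} (t : 𝒳.p.Fiber T) :
    ∃ (F : AlgSp.Space S) (R : SpanRep x t F.obj), AlgSp.LocP @Smooth R.π := by
  obtain ⟨W, hW⟩ := h.op t
  let F : AlgSp.Space S := ⟨(AlgSp.yon S).obj (opn W), AlgSp.IsAlgSpace.yon_obj _⟩
  let R : SpanRep x t F.obj :=
    { π := (AlgSp.yon S).map (opnι W)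
      sec := fun {T'} g u z a b ha hb => ⟨opnLift W g ((hW g z b hb).1 ⟨a⟩)⟩
      sec_π := fun {T'} g u z a b ha hb => congrArg ULift.up (opnLift_ι W g ((hW g z b hb).1 ⟨a⟩))
      sec_surj := fun {T'} s => by
        let g : T' ⟶ T := s.down ≫ opnι W
        have h1 : Nonempty ((pull g t).1 ⟶ x.1) := (hW g (pull g t) (pullHom g t) inferInstance).2 (fun y => by
          exact (s.down.left y).2)
        obtain ⟨a⟩ := h1
        have h2 : 𝒳.p.IsHomLift (eqToHom (pull g t).2.symm ≫ 𝒳.p.map a ≫ eqToHom x.2) a :=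
          IsHomLift.of_fac' 𝒳.p _ a (pull g t).2 x.2 (by simp)
        refine ⟨g, _, pull g t, a, pullHom g t, h2, inferInstance, ?_⟩
        apply ULift.ext
        apply opnι_mono
        exact opnLift_ι W g ((hW g (pull g t) (pullHom g t) inferInstance).1 ⟨a⟩)
      sec_eq_iff := fun {T'} g g' u u' z z' a a' b b' ha ha' hb hb' => by
        constructor
        · intro e
          have e1 : opnLift W g ((hW g z b hb).1 ⟨a⟩) = opnLift W g' ((hW g' z' b' hb').1 ⟨a'⟩) := congrArg ULift.down e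
          have e2 : g = g' := by
            rw [← opnLift_ι W g ((hW g z b hb).1 ⟨a⟩), e1, opnLift_ι]
          subst e2
          refine ⟨cmpHom (p := 𝒳.p) g b b', (h.sub _).elim _ _, cmp_comp (p := 𝒳.p) g b b'⟩
        · rintro ⟨θ, hθ1, hθ2⟩
          have l1 : 𝒳.p.IsHomLift g' (θ.1 ≫ b') := IsHomLift.comp_lift_id_left 𝒳.p g' b' θ.1
          rw [hθ2] at l1
          obtain rfl : g = g' := eq_of_lift 𝒳.p b hb l1
          rfl
      sec_map := fun {T' T''} k g u z'' z c a b hc ha hb hca hcb => by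
        have h1 := (hW g z b hb).1 ⟨a⟩
        have h2 := (hW (k ≫ g) z'' (c ≫ b) hcb).1 ⟨c ≫ a⟩
        have h3 : k ≫ opnLift W g h1 = opnLift W (k ≫ g) h2 := by
          apply opnι_mono
          rw [Category.assoc, opnLift_ι, opnLift_ι]
        exact congrArg ULift.up h3 }
  refine ⟨F, R, ?_⟩
  refine K597.locP_of_repWith (P := @Smooth) K597.etLoc_smooth.precomp ((AlgSp.repWith_yon_map_iff _ _).2 ?_)
  change Smooth W.ι
  infer_instance

theorem OpenChart.rep (h : OpenChart (objOf X)) : AlgSt.RepByAlgSpWith (AlgSp.LocP @Smooth) X :=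
  repByAlgSpWith_of_spanRep fun t => exists_spanRep h t

theorem apply_fromSpec {Y V : Scheme.{u}} (x : V) (g : Y ⟶ Spec (V.residueField x)) (y : Y) :
    (g ≫ V.fromSpecResidueField x) y = x := by
  rw [Scheme.Hom.comp_apply, Scheme.fromSpecResidueField_apply]

/-- The chart is injective on points. -/
theorem OpenChart.injective (h : OpenChart (objOf X)) : Function.Injective (AlgSt.Points.ofChart X) := by
  intro a b hab
  obtain ⟨r, α, β, -⟩ := (K735.Pts.mk_eq_mk_iff hp).1 hab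
  let A : Over U := Over.mk (Over.homMk (U.left.fromSpecResidueField a) rfl :
    Over.mk (U.left.fromSpecResidueField a ≫ U.hom) ⟶ U)
  let B : Over U := Over.mk (Over.homMk (U.left.fromSpecResidueField b) rfl :
    Over.mk (U.left.fromSpecResidueField b ≫ U.hom) ⟶ U)
  have h1 : α ≫ X.map (can A) = β ≫ X.map (can B) := (h.sub _).elim _ _
  have l1 : 𝒳.p.IsHomLift (K735.Pts.baseHom α) α := IsHomLift.of_fac' 𝒳.p _ α r.lies (X.w_obj A) (by
    simp [K735.Pts.baseHom])
  have l2 : 𝒳.p.IsHomLift (K735.Pts.baseHom β) β := IsHomLift.of_fac' 𝒳.p _ β r.lies (X.w_obj B) (by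
    simp [K735.Pts.baseHom])
  have m1 : 𝒳.p.IsHomLift A.hom (X.map (can A)) := lift_map X (can A)
  have m2 : 𝒳.p.IsHomLift B.hom (X.map (can B)) := lift_map X (can B)
  have n1 : 𝒳.p.IsHomLift (K735.Pts.baseHom α ≫ A.hom) (α ≫ X.map (can A)) :=
    IsHomLift.comp 𝒳.p (K735.Pts.baseHom α) A.hom α _
  have n2 : 𝒳.p.IsHomLift (K735.Pts.baseHom β ≫ B.hom) (β ≫ X.map (can B)) :=
    IsHomLift.comp 𝒳.p (K735.Pts.baseHom β) B.hom β _
  rw [← h1] at n2
  have h2 : K735.Pts.baseHom α ≫ A.hom = K735.Pts.baseHom β ≫ B.hom := eq_of_lift 𝒳.p _ n1 n2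
  have h3 : (K735.Pts.baseHom α).left ≫ U.left.fromSpecResidueField a =
      (K735.Pts.baseHom β).left ≫ U.left.fromSpecResidueField b := congrArg (fun m => m.left) h2
  have h4 := congrArg (fun m : Spec (CommRingCat.of r.K) ⟶ U.left => m (IsLocalRing.closedPoint r.K)) h3
  exact (apply_fromSpec a (K735.Pts.baseHom α).left (IsLocalRing.closedPoint r.K)).symm.trans
    (h4.trans (apply_fromSpec b (K735.Pts.baseHom β).left (IsLocalRing.closedPoint r.K)))

/-- The chart is an open embedding on points. -/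
theorem OpenChart.isOpenEmbedding (h : OpenChart (objOf X)) : Topology.IsOpenEmbedding (AlgSt.Points.ofChart X) := by
  refine Topology.IsOpenEmbedding.of_continuous_injective_isOpenMap ?_ h.injective
    (K737.Atlas.isOpenMap_ofChart_of_smooth hp h.rep)
  rw [continuous_def]
  intro W hW
  exact hW U X h.rep

end Rep

/-- A point with an arrow to the object of a chart comes from the chart. -/
theorem exists_ofChart {U : Over S} {X : FibCat.overCat U ⥤ᵇ 𝒳} (p : AlgSt.FPt 𝒳) {Ω : Type u} [Field Ω]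
    {w : Spec (CommRingCat.of Ω) ⟶ S} (t : 𝒳.p.Fiber (Over.mk w)) (b : t.1 ⟶ p.obj) (a : t.1 ⟶ (objOf X).1) :
    ∃ s : U.left, AlgSt.Points.ofChart X s = AlgSt.Points.mk p := by
  let g : Over.mk w ⟶ U := eqToHom t.2.symm ≫ 𝒳.p.map a ≫ eqToHom (objOf X).2
  have ha : 𝒳.p.IsHomLift g a := IsHomLift.of_fac' 𝒳.p g a t.2 (objOf X).2 (by simp [g])
  obtain ⟨s, hs⟩ := K735.PtsSp.exists_ofChart_id (AlgSt.Points.mk
    (⟨Ω, w, (Over.mk g : (FibCat.overCat U).obj), rfl⟩ : AlgSt.FPt (FibCat.overCat U)))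
  refine ⟨s, ?_⟩
  rw [K735.PtsSp.ofChart_eq_map, hs]
  change AlgSt.Points.mk (⟨Ω, w, X.obj (Over.mk g), X.w_obj (Over.mk g)⟩ : AlgSt.FPt 𝒳) = _
  have hθ : t ⟶ objAt X g := cmpHom (p := 𝒳.p) g a (arrAt X g)
  exact AlgSt.Points.sound ⟨⟨Ω, w, t.1, t.2⟩, hθ.1, b, trivial⟩

/-- A field-valued point dominated by a point over an algebraically closed field. -/
theorem exists_algClosed (p : AlgSt.FPt 𝒳) : ∃ (Ω : Type u) (_ : Field Ω) (_ : IsAlgClosed Ω)
    (w : Spec (CommRingCat.of Ω) ⟶ S) (t : 𝒳.p.Fiber (Over.mk w)), Nonempty (t.1 ⟶ p.obj) := by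
  let Ω := AlgebraicClosure p.K
  let i : Spec (CommRingCat.of Ω) ⟶ Spec (CommRingCat.of p.K) := Spec.map (CommRingCat.ofHom (algebraMap p.K Ω))
  let g : (Over.mk (i ≫ p.str) : Over S) ⟶ Over.mk p.str := Over.homMk i
  let x : 𝒳.p.Fiber (Over.mk p.str) := ⟨p.obj, p.lies⟩
  exact ⟨Ω, inferInstance, inferInstance, i ≫ p.str, pull g x, ⟨pullHom g x⟩⟩

/-- Covering families of charts, tested on algebraically closed points. -/
theorem cover_of_algClosed {ι : Type*} (U : ι → Over S) (X : ∀ i, FibCat.overCat (U i) ⥤ᵇ 𝒳)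
    (h : ∀ (Ω : Type u) [Field Ω] [IsAlgClosed Ω] (w : Spec (CommRingCat.of Ω) ⟶ S) (t : 𝒳.p.Fiber (Over.mk w)),
      ∃ i, Nonempty (t.1 ⟶ (objOf (X i)).1)) (z : AlgSt.Points 𝒳) :
    ∃ (i : ι) (t : (U i).left), AlgSt.Points.ofChart (X i) t = z := by
  obtain ⟨p, rfl⟩ := AlgSt.Points.mk_surjective z
  obtain ⟨Ω, _, _, w, t, ⟨b⟩⟩ := exists_algClosed p
  obtain ⟨i, ⟨a⟩⟩ := h Ω w t
  obtain ⟨s, hs⟩ := exists_ofChart p t b a
  exact ⟨i, s, hs⟩

section Sig

variable {I : Type u} (U : I → Over S) (x : 𝒳.p.Fiber (K594.Cover.sig U)) (xi : ∀ i, 𝒳.p.Fiber (U i))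
  (a : ∀ i, (xi i).1 ⟶ x.1) (ha : ∀ i, 𝒳.p.IsHomLift (K594.Cover.sigι U i) (a i))

include ha in
/-- An object over a disjoint union whose restrictions are monomorphic open charts. -/
theorem rep_sig (hs : Stk.IsPrestack (AlgSp.J S) 𝒳) (h : ∀ i, OpenChart (xi i)) :
    AlgSt.RepByAlgSpWith (AlgSp.LocP @Smooth) (ofObj x) := by
  refine K742.Atlas0.repByAlgSpWith_sig hs K597.etLoc_smooth fun i => ?_
  refine OpenChart.rep (OpenChart.of_hom (h i) ?_)
  have hg : 𝒳.p.IsHomLift (𝟙 (U i) ≫ K594.Cover.sigι U i) (a i) := by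
    rw [Category.id_comp]
    exact ha i
  exact cmpHom (p := 𝒳.p) (x'' := objOf (BasedFunctor.comp (AlgSt.overMap (K594.Cover.sigι U i)) (ofObj x)))
    (𝟙 (U i) ≫ K594.Cover.sigι U i) (a i) (pullHom (𝟙 (U i) ≫ K594.Cover.sigι U i) x)

theorem surj_sig (h : ∀ (Ω : Type u) [Field Ω] [IsAlgClosed Ω] (w : Spec (CommRingCat.of Ω) ⟶ S)
    (t : 𝒳.p.Fiber (Over.mk w)), ∃ i, Nonempty (t.1 ⟶ (xi i).1)) {P : MorphismProperty (AlgSp.Sp S)}
    (hx : AlgSt.RepByAlgSpWith P (ofObj x)) (a : ∀ i, (xi i).1 ⟶ x.1) :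
    AlgSt.RepByAlgSpWith AlgSp.IsSurjectiveMor (ofObj x) := by
  rw [K737.Atlas.surjective_iff hp hx]
  intro z
  obtain ⟨-, s, hs⟩ := cover_of_algClosed (ι := Unit) (fun _ => K594.Cover.sig U) (fun _ => ofObj x)
    (fun Ω _ _ w t => by
      obtain ⟨i, ⟨b⟩⟩ := h Ω w t
      exact ⟨(), ⟨b ≫ a i ≫ (inv (objOfOfObj x)).1⟩⟩) z
  exact ⟨s, hs⟩

end Sig

/-- The dimension of the space of points, from a covering by monomorphic open charts. -/
theorem dim_points {ι : Type*} (U : ι → Over S) (X : ∀ i, FibCat.overCat (U i) ⥤ᵇ 𝒳)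
    (h : ∀ i, OpenChart (objOf (X i)))
    (hc : ∀ z : AlgSt.Points 𝒳, ∃ (i : ι) (t : (U i).left), AlgSt.Points.ofChart (X i) t = z) :
    topologicalKrullDim (AlgSt.Points 𝒳) = ⨆ i, topologicalKrullDim (U i).left := by
  rw [Groth.Agent.VarietyB.DimTop.topologicalKrullDim_eq_iSup_of_cover
    (fun i => (⟨Set.range (AlgSt.Points.ofChart (X i)), (h i).isOpenEmbedding.isOpen_range⟩ :
      TopologicalSpace.Opens (AlgSt.Points 𝒳)))
    (fun z => by obtain ⟨i, t, ht⟩ := hc z; exact ⟨i, t, ht⟩)]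
  refine iSup_congr fun i => ?_
  exact (IsHomeomorph.topologicalKrullDim_eq _ (h i).isOpenEmbedding.toHomeomorph.isHomeomorph).symm

end K188.StChart
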