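import Groth.Agent.Fano.K188.Line
import Groth.Agent.Fano.K188.QuotSpec
import Groth.Agent.Fano.K188.StChart
import Groth.Agent.Fano.K655.MapPre

/-!
# The charts of the stack of pointed lines

* `UO G i j`, `uD G i j`: the chart `Spec (RRing G i j)`;
* `nonempty_hom_u`, `subsingleton_hom_u`, and for the fibres `nonempty_hom_f`, `subsingleton_hom_f`;
* `openChart_u`.
-/

set_option autoImplicit false
universe u
open CategoryTheory CategoryTheory.Limits AlgebraicGeometry TopologicalSpace

namespace K188.UChart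

open K390.PnSec Groth.Agent.Fdesc.LocGen Groth.Agent.Dix.ProjProper
open Groth.Agent.Ega2.H295.PnUniq Groth.Agent.Ega2.H295.PnCoord
open K188.LineDef K188.LineRing K188.MapP1 K188.HypFac K188.LinFun K188.OnHypL K188.LinP1 K188.FamIso W4swstmapratcurves
open K188.QuotSpec K188.Line K188.StChart

attribute [local instance] MvPolynomial.gradedAlgebra

variable {k : Type u} [Field k] {n d : ℕ}

/-- The base. -/
noncomputable abbrev SS (k : Type u) [Field k] : Scheme.{u} := Spec (CommRingCat.of k)

/-- The stack of pointed lines. -/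
noncomputable abbrev MS (G : LefPen.Form n k d) : AlgSt.Cat (SS k) := StMap.MapSt (SS k) (hypOver G) (hypO1 G) 0 1 1

/-- The condition of stability and degree. -/
abbrev Stab {G : LefPen.Form n k d} (A : StMap.MapFamObj (SS k) 1 (hypOver G)) : Prop :=
  StMap.IsStableMapFam A.f A.sect A.sect_f A.map 0 ∧ StMap.IsFibDeg A.f A.map (hypO1 G) 1

section Chart

variable (G : LefPen.Form n k d) (i j : Fin (n + 1))

/-- The chart. -/
noncomputable def UO : Over (SS k) := Over.mk (qs (RIdeal G i j))

/-- The coordinates of the chart. -/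
noncomputable def uD : Dat G i j (UO G i j) := ⟨uv G i j, uc G i j, uv_self, uc_self, uc_one, onHyp_u⟩

variable {G i j}

/-- The map of a line. -/
noncomputable def dm {T : Over (SS k)} (D : Dat G i j T) : P1 T.left ⟶ (hypOver G).left := D.exists_m.choose

theorem dm_over {T : Over (SS k)} (D : Dat G i j T) : dm D ≫ (hypOver G).hom = pr T.left ≫ T.hom :=
  D.exists_m.choose_spec.1

theorem dm_given {T : Over (SS k)} (D : Dat G i j T) : GivenBy (dm D ≫ inc G) (N T.left) (lsec D.v D.c) :=
  D.exists_m.choose_spec.2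

/-- The family of a line. -/
noncomputable def dF {T : Over (SS k)} (D : Dat G i j T) : StMap.MapFamObj (SS k) 1 (hypOver G) :=
  std T (dm D) (dm_over D)

theorem stab_dF (hA : StdStable G) {T : Over (SS k)} (D : Dat G i j T) : Stab (dF D) :=
  hA T.left (dm D) D.v D.c i j D.hv D.hc D.hcj (dm_given D)

variable {A : StMap.MapFamObj (SS k) 1 (hypOver G)}

theorem subsingleton_hom_u : Subsingleton (A ⟶ dF (uD G i j)) := by
  refine ⟨fun b b' => hom_unique (i := i) (j := j) (dm_given (uD G i j)) (uD G i j).hv (uD G i j).hc (uD G i j).hcj b b'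
    fun h1 h2 => ?_⟩
  apply Over.OverMorphism.ext
  refine toR_ext ?_ h1 h2
  exact (Over.w (bs b)).trans (Over.w (bs b')).symm

theorem nonempty_hom_u (hB : GeoFib k n) (hs : Stab A) : Nonempty (A ⟶ dF (uD G i j)) ↔ InChart i j A := by
  constructor
  · rintro ⟨b⟩
    exact InChart.of_hom b ((uD G i j).inChart (dm_over _) (dm_given _))
  · intro h
    obtain ⟨D, e, he⟩ := exists_dat hB A hs.1 hs.2 h
    obtain ⟨g, hg, hgv, hgc⟩ := exists_toR (G := G) (q := A.base.hom) D.hv D.hc D.hcj D.hG
    let g' : A.base ⟶ UO G i j := Over.homMk g hg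
    have h1 : IsCoord A (fun a => g'.left.appTop ((uD G i j).v a)) (fun a => g'.left.appTop ((uD G i j).c a)) e := by
      have h2 : (fun a => g'.left.appTop ((uD G i j).v a)) = D.v := hgv
      have h3 : (fun a => g'.left.appTop ((uD G i j).c a)) = D.c := hgc
      rw [h2, h3]
      exact he
    obtain ⟨b, -⟩ := exists_hom (dm_over (uD G i j)) (dm_given (uD G i j)) g' h1
    exact ⟨b⟩

end Chart

section FChart

variable (G : LefPen.Form n k d) (i j : Fin (n + 1)) (w : Fin (n + 1) → k)

/-- The chart of the fibre. -/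
noncomputable def FO : Over (SS k) := Over.mk (qs (FIdeal G i j w))

variable {G i j w}

/-- The coordinates of the chart of the fibre. -/
noncomputable def fD (G : LefPen.Form n k d) (i j : Fin (n + 1)) {w : Fin (n + 1) → k} (hw : w i = 1) :
    Dat G i j (FO G i j w) :=
  ⟨fun a => kmap (qs (FIdeal G i j w)) (w a), fc G i j w, by rw [hw, map_one]; rfl, fc_self, fc_one, onHyp_f⟩

variable (hw : w i = 1) {A : StMap.MapFamObj (SS k) 1 (hypOver G)}

theorem subsingleton_hom_f : Subsingleton (A ⟶ dF (fD G i j hw)) := by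
  refine ⟨fun b b' => hom_unique (i := i) (j := j) (dm_given (fD G i j hw)) (fD G i j hw).hv (fD G i j hw).hc
    (fD G i j hw).hcj b b' fun h1 h2 => ?_⟩
  apply Over.OverMorphism.ext
  refine toF_ext ?_ h2
  exact (Over.w (bs b)).trans (Over.w (bs b')).symm

theorem nonempty_hom_f (hB : GeoFib k n) (hs : Stab A)
    (hpt : GivenBy (A.sect 0 ≫ A.map ≫ inc G) (Coh.structureModule _) (fun a => ofFun (kmap A.base.hom (w a)))) :
    Nonempty (A ⟶ dF (fD G i j hw)) ↔ InChart i j A := by
  constructor
  · rintro ⟨b⟩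
    exact InChart.of_hom b ((fD G i j hw).inChart (dm_over _) (dm_given _))
  · intro h
    obtain ⟨D, e, he⟩ := exists_dat hB A hs.1 hs.2 h
    have hv : D.v = fun a => kmap A.base.hom (w a) := by
      have h1 := givenBy_pt_comp he.given
      rw [← Category.assoc, he.sect] at h1
      exact ofFun_unique D.hv (by rw [hw, map_one]) h1 hpt
    have hG := D.hG
    rw [hv] at hG
    obtain ⟨g, hg, hgc⟩ := exists_toF (G := G) (q := A.base.hom) D.hc D.hcj hG
    let g' : A.base ⟶ FO G i j w := Over.homMk g hg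
    have h1 : IsCoord A (fun a => g'.left.appTop ((fD G i j hw).v a)) (fun a => g'.left.appTop ((fD G i j hw).c a)) e := by
      have h2 : (fun a => g'.left.appTop ((fD G i j hw).v a)) = D.v := by
        rw [hv]
        funext a
        have h4 := kmap_appTop (q := qs (FIdeal G i j w)) g (w a)
        rw [hg] at h4
        exact h4
      have h3 : (fun a => g'.left.appTop ((fD G i j hw).c a)) = D.c := hgc
      rw [h2, h3]
      exact he
    obtain ⟨b, -⟩ := exists_hom (dm_over (fD G i j hw)) (dm_given (fD G i j hw)) g' h1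
    exact ⟨b⟩

end FChart

section Open

variable {G : LefPen.Form n k d} {i j : Fin (n + 1)}

/-- The object of a line. -/
noncomputable def dO (hA : StdStable G) {T : Over (SS k)} (D : Dat G i j T) : (MS G).p.Fiber T :=
  ⟨⟨dF D, stab_dF hA D⟩, rfl⟩

theorem openChart_u (hA : StdStable G) (hB : GeoFib k n) : OpenChart (dO hA (uD G i j)) where
  sub z := ⟨fun a b => by
    have h1 : a.hom = b.hom := (subsingleton_hom_u (G := G) (i := i) (j := j) (A := z.obj)).elim _ _
    ext1
    exact h1⟩
  op {T} t := by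
    obtain ⟨t, rfl⟩ := t
    obtain ⟨W, hW⟩ := exists_locus i j t.obj t.property.1.2.1
    refine ⟨W, fun {T'} g z b hb => ?_⟩
    obtain ⟨z, rfl⟩ := z
    have h1 : g = (MS G).p.map b := IsHomLift.eq_of_isHomLift (MS G).p g b
    subst h1
    have h2 : Nonempty (z ⟶ (dO hA (uD G i j)).1) ↔ Nonempty (z.obj ⟶ dF (uD G i j)) :=
      ⟨fun ⟨a⟩ => ⟨a.hom⟩, fun ⟨a⟩ => ⟨⟨a⟩⟩⟩
    exact h2.trans ((nonempty_hom_u hB z.property).trans (hW b.hom))

end Open

end K188.UChart
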